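import Cfsg.Agent.H946.RadD4_m3
import Cfsg.Agent.H378.TwRowsF
import Cfsg.Agent.H129.CycRow
import Cfsg.Agent.H325.Iso2F4
import Cfsg.Agent.H325.IsoExc
import Cfsg.Agent.S1059
import Cfsg.Agent.S1062
import Cfsg.Agent.S1067
import Cfsg.Agent.S1068
import Cfsg.Agent.H290.ElMain
import Cfsg.Agent.H325.Same.ExcRow2
import Cfsg.Agent.H290.ElFin_m3
import Cfsg.Agent.CpAutTwD.Row
import Cfsg.Agent.H946.DtNamed_mg
import Cfsg.Agent.H290.ElCross
import Cfsg.Agent.H325.Same.ExcPairE_m3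
import Cfsg.Agent.H278.ElDefs
import Cfsg.Agent.FastGrp
import Cfsg.Agent.Prune
set_option linter.all false

section
prune_inst 0x7ffebcfeeff8afffffff7e7ffefddffc39d4dfffbfdffb43fffcebff8fdf031e1be5fbaf1de0f8ff1ed6e0b630b87813fbfffeffef6ffc7ffffdfff45ffbee1ff7ffbdac51d7b8340f7c6ffffbf07fce7f3fffffffffffffffffffffffffffbeffffffffffff

-- part: H946/Inst
section
prune_inst 0x14200100350000000000001000003862b2000000000000003040010009861c00800008006020080010e48080103400400010000000000000000000000000000000201200807cad08300000001002000000000000000000000000000000041000000000000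
set_option linter.all false
open scoped Cfsg.Agent.FastGrp

-- part: H946/RadF4
section
/-!
# The solvable radical of full subgroups of `F₄(q)` and `²F₄(q)` (helper946)
-/

set_option autoImplicit false

namespace Cfsg.Agent.H946.Num

open Cfsg.Agent.H436

/-- the part prime to 481 -/
theorem no_481 {N R : ℕ} (hall : ∀ s, s.Prime → s ∣ N → s = 13 ∨ s = 37) (hR : R ∣ N) (h1 : R ≠ 1)
    (hc : Nat.gcd R 481 = 1) : False := by
  obtain ⟨s, hs, hsR⟩ := Nat.exists_prime_and_dvd h1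
  have h2 : s ∣ 481 := by
    rcases hall s hs (hsR.trans hR) with rfl | rfl
    · norm_num
    · norm_num
  have h3 := Nat.dvd_gcd hsR h2
  rw [hc] at h3
  exact hs.one_lt.ne' (Nat.dvd_one.1 h3)

theorem mem_of_le {q s : ℕ} (hs : s.Prime) (h : s ∣ N12 q) (hle : s ≤ 52) : s = 13 ∨ s = 37 := by
  have h1 := mod_of_order hs (by norm_num) (od_N12 hs h)
  have h2 := hs.two_le
  have h3 : s = 13 ∨ s = 25 ∨ s = 37 ∨ s = 49 := by
    obtain ⟨k, hk⟩ := h1
    omega
  rcases h3 with rfl | rfl | rfl | rfl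
  · exact Or.inl rfl
  · exact absurd hs (by norm_num)
  · exact Or.inr rfl
  · exact absurd hs (by norm_num)

theorem case4 {a : ℕ} (ha : 3 ≤ a) (hall : ∀ s, s.Prime → s ∣ N12 (2 ^ a) → s ≤ 52) : False := by
  have h1 : 1 ≤ 2 ^ a := Nat.one_le_pow _ _ (by norm_num)
  obtain ⟨w, hw⟩ := exists_prim (q := 2) (e := 12 * a) (by omega) (by omega) (by
    rintro ⟨-, h6⟩
    omega)
  have hw1 := hall w hw.prime (prim_N12 h1 (prim_pow (by omega) hw))
  have hw2 := prim_mod (by norm_num) (by omega) hw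
  have hw3 := prim_lt (by norm_num) (by omega) hw
  have hwp := hw.prime
  have ha2 : a = 3 := by
    by_contra hne
    have : a = 4 := by omega
    subst this
    have : w = 49 := by omega
    rw [this] at hwp
    revert hwp; norm_num
  subst ha2
  exact absurd (hall 109 (by norm_num) (by decide)) (by norm_num)

theorem case5 {p a : ℕ} (hp : p.Prime) (ha : 0 < a) (hp2 : p ≠ 2) (hple : p ≤ 52)
    (hall : ∀ s, s.Prime → s ∣ N12 (p ^ a) → s ≤ 52) : False := by
  have h2 := hp.two_le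
  have h1p : 1 ≤ p := by omega
  have h1 : 1 ≤ p ^ a := Nat.one_le_pow _ _ h1p
  have hall' : ∀ s, s.Prime → s ∣ N12 (p ^ a) → s = 13 ∨ s = 37 := fun s hs h => mem_of_le hs h (hall s hs h)
  obtain ⟨w, hw⟩ := exists_prim (q := p) (e := 12 * a) (by omega) (by omega) (by
    rintro ⟨rfl, h6⟩
    omega)
  have hw1 := hall' w hw.prime (prim_N12 h1 (prim_pow ha hw))
  have hw2 := prim_mod h1p (by omega) hw
  have hw3 := prim_lt h1p (by omega) hw
  have ha2 : a = 1 ∨ a = 3 := by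
    have : a ≤ 3 := by omega
    have : a ≠ 2 := by
      rintro rfl
      omega
    omega
  have key : ∀ n ∈ ([3, 5, 7, 11, 13, 17, 19, 23, 29, 31, 37, 41, 43, 47] : List ℕ), ∀ b ∈ ([1, 3] : List ℕ),
      N12 (n ^ b) / Nat.gcd (N12 (n ^ b)) (481 ^ 2) ≠ 1 ∧
      Nat.gcd (N12 (n ^ b) / Nat.gcd (N12 (n ^ b)) (481 ^ 2)) 481 = 1 := by decide +kernel
  have hmem : p ∈ ([3, 5, 7, 11, 13, 17, 19, 23, 29, 31, 37, 41, 43, 47] : List ℕ) := by
    interval_cases p <;> first | (exact absurd rfl hp2) | (exfalso; revert hp; norm_num; done) | decide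
  have hmem2 : a ∈ ([1, 3] : List ℕ) := by
    rcases ha2 with rfl | rfl <;> decide
  obtain ⟨h3, h4⟩ := key p hmem a hmem2
  exact no_481 hall' (Nat.div_dvd_of_dvd (Nat.gcd_dvd_left _ _)) h3 h4

end Cfsg.Agent.H946.Num

namespace Cfsg.Agent.H946.Rad

open Cfsg.Agent.H946.Num Cfsg.Agent.H436 Cfsg.Agent.H325.Loc

/-- torus data of `F₄(q)` -/
structure DatF4 (T : Type*) [Group T] (p a : ℕ) : Prop where
  hp : p.Prime
  ha : 0 < a
  card : Nat.card T = (p ^ a) ^ 24 * ((p ^ a) ^ 2 - 1) * ((p ^ a) ^ 6 - 1) * ((p ^ a) ^ 8 - 1) * ((p ^ a) ^ 12 - 1)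
  t12 : Tor T (N12 (p ^ a)) 0
  t8 : ∀ x : T, (orderOf x).Prime → orderOf x ≠ 2 → orderOf x ∣ N8 (p ^ a) →
    IsCyclic ↥(Subgroup.centralizer ({x} : Set T)) ∧ Nat.card ↥(Subgroup.centralizer ({x} : Set T)) ∣ N8 (p ^ a)

theorem twelve_factor (q : ℕ) : (q ^ 6 - 1) * (q ^ 2 + 1) * N12 q = q ^ 12 - 1 := by
  rcases Nat.eq_zero_or_pos q with rfl | hq
  · rfl
  zify [Nat.one_le_pow 6 q hq, Nat.one_le_pow 12 q hq]
  rw [cast_N12]
  ring

theorem eight_factor' (q : ℕ) : (q ^ 4 - 1) * N8 q = q ^ 8 - 1 := by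
  rcases Nat.eq_zero_or_pos q with rfl | hq
  · rfl
  unfold N8
  zify [Nat.one_le_pow 4 q hq, Nat.one_le_pow 8 q hq]
  ring

theorem f4_card (q : ℕ) : q ^ 24 * (q ^ 2 - 1) * (q ^ 6 - 1) * (q ^ 8 - 1) * (q ^ 12 - 1) =
    N12 q * (q ^ 24 * (q ^ 2 - 1) * (q ^ 6 - 1) * (q ^ 8 - 1) * ((q ^ 6 - 1) * (q ^ 2 + 1))) := by
  rw [← twelve_factor]; ring

theorem f4_mod {q t : ℕ} (hq : 1 ≤ q) (htp : t.Prime) (ht : t ∣ N12 q) :
    q ^ 24 * (q ^ 2 - 1) * (q ^ 6 - 1) * (q ^ 8 - 1) * ((q ^ 6 - 1) * (q ^ 2 + 1)) ≡ 12 [MOD t] := by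
  have h0 := zm_N12 htp ht
  rw [← ZMod.natCast_eq_natCast_iff]
  push_cast [Nat.one_le_pow 6 q hq, Nat.one_le_pow 2 q hq, Nat.one_le_pow 8 q hq]
  generalize (q : ZMod t) = x at h0
  have h6 : x ^ 6 = -1 := by linear_combination (x ^ 2 + 1) * h0
  have h24 : x ^ 24 = 1 := by
    have : x ^ 24 = (x ^ 6) ^ 4 := by ring
    rw [this, h6]; ring
  have h8 : x ^ 8 = - x ^ 2 := by
    have : x ^ 8 = x ^ 6 * x ^ 2 := by ring
    rw [this, h6]; ring
  rw [h24, h6, h8]
  linear_combination (-4 * (x ^ 2 + 1) - 4) * h0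

variable {T : Type*} [Group T] [Finite T] {p a : ℕ}

theorem DatF4.dvd12 (D : DatF4 T p a) : N12 (p ^ a) ∣ Nat.card T := by
  rw [D.card, f4_card]
  exact Dvd.intro _ rfl

theorem DatF4.dvd8 (D : DatF4 T p a) : N8 (p ^ a) ∣ Nat.card T := by
  rw [D.card, ← eight_factor']
  exact ((Dvd.intro_left _ rfl).mul_left _).mul_right _

theorem DatF4.dvdp (D : DatF4 T p a) : p ∣ Nat.card T := by
  rw [D.card]
  have h1 : p ∣ p ^ a := dvd_pow_self p D.ha.ne'
  exact ((((h1.trans (dvd_pow_self _ (by norm_num))).mul_right _).mul_right _).mul_right _).mul_right _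

theorem not_dvd_N8 {p a : ℕ} (hp : p.Prime) (ha : 0 < a) : ¬ p ∣ N8 (p ^ a) := by
  intro h
  unfold N8 at h
  have h1 : p ∣ p ^ a := dvd_pow_self p ha.ne'
  exact hp.one_lt.ne' (Nat.dvd_one.1 ((Nat.dvd_add_right (h1.trans (dvd_pow_self _ (by norm_num)))).1 h))

theorem seventeen_le {q s : ℕ} (hs : s.Prime) (h2 : s ≠ 2) (h : s ∣ N8 q) : 17 ≤ s := by
  have h1 := mod_of_order hs (by norm_num) (od_N8 hs h h2)
  have := hs.two_le
  by_contra hlt
  have : s = 9 := by omega
  rw [this] at hs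
  revert hs; norm_num

theorem cop812 {q s : ℕ} (hs : s.Prime) (h2 : s ≠ 2) (h : s ∣ N8 q) (h' : s ∣ N12 q) : False := by
  have h1 := od_N8 hs h h2
  have h2 := od_N12 hs h'
  omega

/-- centralisers of elements of prime order dividing `N` -/
theorem Tor.dvd {N : ℕ} (h : Tor T N 0) {M : Subgroup T} {x : ↥M} (hx : (orderOf x).Prime)
    (hxN : orderOf x ∣ N) {y : ↥M} (hxy : Commute x y) : orderOf y ∣ N := by
  have h2 := orderOf_dvd_cent (commute_coe hxy)
  rw [Subgroup.orderOf_coe] at h2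
  exact h2.trans (h.of hx hx.ne_zero hxN).2

/-- **The case `t ∤ Φ₁₂(q)`** -/
theorem Tor.free_case (h : Tor T (N12 (p ^ a)) 0) (hp : p.Prime) {M : Subgroup T} {F : Type*} [Field F] [CharP F p]
    {ι : Type*} [Fintype ι] [DecidableEq ι] {τ : T →* Matrix.GeneralLinearGroup ι F}
    (hτ : Function.Injective τ) (hop : ∀ Q : Subgroup ↥M, Q.Normal → IsPGroup p ↥Q → Q = ⊥)
    (hpM : p ∣ Nat.card ↥M) (hM : ∀ s, s.Prime → s ∣ N12 (p ^ a) → s ∣ Nat.card ↥M)
    (hq : 2 ≤ p ^ a) {A : Subgroup ↥M} [hAn : A.Normal] (hA : A ≠ ⊥)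
    (hAc : ∀ a ∈ A, ∀ b ∈ A, a * b = b * a) {t : ℕ} (ht : t.Prime) (htp : t ≠ p) (hAt : ∀ a ∈ A, a ^ t = 1)
    (h12 : ¬ t ∣ N12 (p ^ a)) :
    ∃ W : ℕ, W ≤ Fintype.card ι ∧ p ≤ W ∧ ∀ s, s.Prime → s ∣ N12 (p ^ a) → s ≤ W := by
  have hpF : Fact p.Prime := ⟨hp⟩
  have hex : ∀ s, s.Prime → s ∣ N12 (p ^ a) → ∃ y : ↥M, orderOf y = s := by
    intro s hs hsN
    have := Fact.mk hs
    exact exists_prime_orderOf_dvd_card' s (hM s hs hsN)
  obtain ⟨s, hs, hsN⟩ := exists_N12 (q := p ^ a) hq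
  obtain ⟨y, hy⟩ := hex s hs hsN
  obtain ⟨W, hW0, hW, hpW, h1, -, -⟩ := le_of_free (τ := τ.comp M.subtype) (p := p)
    (P := fun s => s ∣ N12 (p ^ a)) (A := A)
    (hτ.comp M.subtype_injective) hop hpM hAc (not_dvd_card ht hAt hp (Ne.symm htp)) hA
    (by
      intro z hz hzN b hb hzb
      have h1 := h.dvd (x := z) hz hzN (y := b) hzb
      by_contra hb1
      have := Fact.mk ht
      have h2 : orderOf b = t := orderOf_eq_prime (hAt b hb) hb1
      exact h12 (h2 ▸ h1))
    (fun z b hz hzN hzb _ => h.dvd hz hzN hzb)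
    (x := y) (by rw [hy]; exact hs) (by show orderOf y ∣ N12 (p ^ a); rw [hy]; exact hsN)
  refine ⟨W, hW, hpW, fun r hr hrN => ?_⟩
  obtain ⟨z, hz⟩ := hex r hr hrN
  have := h1 z (by rw [hz]; exact hr) (by show orderOf z ∣ N12 (p ^ a); rw [hz]; exact hrN)
  rw [hz] at this
  exact Nat.le_of_dvd hW0 this

/-- **The case `t ∣ Φ₁₂(q)`** -/
theorem DatF4.norm (D : DatF4 T p a) {M : Subgroup T} {A : Subgroup ↥M} [hAn : A.Normal]
    (hAc : ∀ a ∈ A, ∀ b ∈ A, a * b = b * a) {t : ℕ} (ht : t.Prime) (hAt : ∀ a ∈ A, a ^ t = 1)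
    (h12 : t ∣ N12 (p ^ a)) {x : ↥M} (hxA : x ∈ A) (hx : orderOf x = t) : Nat.card ↥M ∣ N12 (p ^ a) * 12 := by
  have h0 : orderOf (x : T) = t := by rw [Subgroup.orderOf_coe, hx]
  obtain ⟨h1, h2⟩ := D.t12 (x : T) (by rw [h0]; exact ht) (by rw [h0]; exact ht.ne_zero) (by rw [h0]; exact h12)
  have h13 := thirteen_le ht h12
  exact norm_case hAc hxA (by rw [hx]; exact ht) (by rw [hx]; exact hAt) h1 h2 (by rw [D.card, f4_card])
    (by rw [hx]; exact f4_mod (Nat.one_le_pow _ _ D.hp.pos) ht h12) (by norm_num) (by rw [hx]; omega)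

/-- **The solvable radical of a full subgroup of `F₄(q)` is trivial.** -/
theorem DatF4.rad (D : DatF4 T p a) (hiso : ∃ w, w.Prime ∧ w ∣ Nat.card T ∧ PIso p w T) {M : Subgroup T}
    (hM : Full M) {F : Type*} [Field F] [CharP F p] {ι : Type*}
    [Fintype ι] [DecidableEq ι] (hι : Fintype.card ι = 52) {τ : T →* Matrix.GeneralLinearGroup ι F}
    (hτ : Function.Injective τ) (S : Subgroup ↥M) (hS : S.Normal) (hs : Group.IsSolvable S) : S = ⊥ := by
  have hpF : Fact p.Prime := ⟨D.hp⟩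
  have hq2 : 2 ≤ p ^ a := D.hp.two_le.trans (Nat.le_self_pow D.ha.ne' p)
  have hop : ∀ Q : Subgroup ↥M, Q.Normal → IsPGroup p ↥Q → Q = ⊥ := by
    obtain ⟨w, hw, hwT, hiso⟩ := hiso
    exact core_eq_bot hiso (hM w hw hwT)
  by_contra hne
  obtain ⟨t, ht, htp, A, hAn, hA, hAc, hAt, x, hxA, hx⟩ := exists_el hop hS hs hne
  obtain ⟨s, hs, hs2, hsN⟩ := exists_N8 (q := p ^ a) hq2
  obtain ⟨r, hr, hrN⟩ := exists_N12 (q := p ^ a) hq2
  have hs17 := seventeen_le hs hs2 hsN
  have hr13 := thirteen_le hr hrN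
  by_cases h12 : t ∣ N12 (p ^ a)
  · have h3 := D.norm hAc ht hAt h12 hxA hx
    rcases hs.dvd_mul.1 ((hM s hs (hsN.trans D.dvd8)).trans h3) with h5 | h5
    · exact cop812 hs hs2 hsN h5
    · have := Nat.le_of_dvd (by norm_num) h5
      omega
  by_cases ht2 : t = 2
  · subst ht2
    obtain ⟨W, hW, hpW, h1⟩ := D.t12.free_case D.hp hτ hop (hM p D.hp D.dvdp)
      (fun s hs hsN => hM s hs (hsN.trans D.dvd12)) hq2 hA hAc ht htp hAt h12
    rw [hι] at hW
    exact case5 D.hp D.ha (Ne.symm htp) (hpW.trans hW) fun s hs hsN => (h1 s hs hsN).trans hW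
  have c12 : ∀ y : T, orderOf y = r → Nat.card ↥(Subgroup.centralizer ({y} : Set T)) ∣ N12 (p ^ a) := fun y hy =>
    (D.t12 y (by rw [hy]; exact hr) (by rw [hy]; exact hr.ne_zero) (by rw [hy]; exact hrN)).2.dvd
  have c8 : ∀ y : T, orderOf y = s → Nat.card ↥(Subgroup.centralizer ({y} : Set T)) ∣ N8 (p ^ a) := fun y hy =>
    (D.t8 y (by rw [hy]; exact hs) (by rw [hy]; exact hs2) (by rw [hy]; exact hsN)).2
  have hpr : p ≠ r := by rintro rfl; exact not_dvd_N12 hr D.ha hrN
  by_cases h8 : t ∣ N8 (p ^ a)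
  · have h0 : orderOf (x : T) = t := by rw [Subgroup.orderOf_coe, hx]
    exact cyc_case hAc hxA (D.t8 (x : T) (by rw [h0]; exact ht) (by rw [h0]; exact ht2) (by rw [h0]; exact h8))
      D.hp hr hpr (hM p D.hp D.dvdp) (hM r hr (hrN.trans D.dvd12)) (not_dvd_N8 D.hp D.ha)
      (fun h => cop812 hr (by omega) h hrN) c12 (not_dvd_N12 D.hp D.ha)
  obtain ⟨y, hy⟩ := hM.exists_elt hs (hsN.trans D.dvd8)
  obtain ⟨z, hz⟩ := hM.exists_elt hr (hrN.trans D.dvd12)
  refine free_case (p := p) (x := y) (y := z) hA hAc ht hAt hτ (not_dvd_card ht hAt D.hp (Ne.symm htp))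
    (by rw [hy]; exact hs) (by rw [hz]; exact hr) (by rw [hy, hz]; rintro rfl; exact cop812 hs hs2 hsN hrN)
    (c8 (y : T) (by rw [Subgroup.orderOf_coe, hy])) (c12 (z : T) (by rw [Subgroup.orderOf_coe, hz])) h8 h12 ?_
  rw [hι, hy, hz]
  have := Nat.mul_le_mul hs17 hr13
  omega

/-- **The solvable radical of a full subgroup of `²F₄(q)` is trivial.** `E` is `F₄(q)`, `T` is `²F₄(q)`. -/
theorem DatF4.rad_tf4 {E : Type*} [Group E] [Finite E] (D : DatF4 E 2 a) (ha3 : 3 ≤ a) {ι' : T →* E}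
    (hι' : Function.Injective ι') (h12T : N12 (2 ^ a) ∣ Nat.card T) (h2T : 2 ∣ Nat.card T)
    (h4T : (2 ^ a) ^ 2 + 1 ∣ Nat.card T)
    (hiso : ∃ w, w.Prime ∧ w ∣ Nat.card T ∧ PIso 2 w T) {M : Subgroup T}
    (hM : Full M) {F : Type*} [Field F] [CharP F 2] {ι : Type*}
    [Fintype ι] [DecidableEq ι] (hι : Fintype.card ι = 52) {τ : E →* Matrix.GeneralLinearGroup ι F}
    (hτ : Function.Injective τ) (S : Subgroup ↥M) (hS : S.Normal) (hs : Group.IsSolvable S) : S = ⊥ := by
  have hq2 : 2 ≤ 2 ^ a := Nat.le_self_pow (by omega) 2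
  have h2 : Nat.Prime 2 := Nat.prime_two
  have hpF : Fact (Nat.Prime 2) := ⟨h2⟩
  have hop : ∀ Q : Subgroup ↥M, Q.Normal → IsPGroup 2 ↥Q → Q = ⊥ := by
    obtain ⟨w, hw, hwT, hiso⟩ := hiso
    exact core_eq_bot hiso (hM w hw hwT)
  let e : ↥M ≃* ↥(M.map ι') := Subgroup.equivMapOfInjective M ι' hι'
  have hcard : Nat.card ↥(M.map ι') = Nat.card ↥M := (Nat.card_congr e.toEquiv).symm
  have hop' : ∀ Q : Subgroup ↥(M.map ι'), Q.Normal → IsPGroup 2 ↥Q → Q = ⊥ := by
    intro Q hQ hQ2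
    have h3 := hop (Q.comap e.toMonoidHom) (hQ.comap _) (hQ2.comap_of_injective _ e.injective)
    rw [eq_bot_iff]
    intro y hy
    have h4 : e.symm y ∈ Q.comap e.toMonoidHom := by
      rw [Subgroup.mem_comap]
      simpa using hy
    rw [h3, Subgroup.mem_bot] at h4
    rw [Subgroup.mem_bot]
    have := congrArg e h4
    simpa using this
  by_contra hne
  obtain ⟨t, ht, htp, A, hAn, hA, hAc, hAt, x, hxA, hx⟩ := exists_el (M := M.map ι') (S := S.map e.toMonoidHom) hop'
    (hS.map _ e.surjective) (Group.isSolvable_of_surjective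
      (f := (S.equivMapOfInjective e.toMonoidHom e.injective).toMonoidHom)
      (S.equivMapOfInjective e.toMonoidHom e.injective).surjective)
    (by rw [Ne, Subgroup.map_eq_bot_iff_of_injective _ e.injective]; exact hne)
  by_cases h12 : t ∣ N12 (2 ^ a)
  · have h3 := D.norm hAc ht hAt h12 hxA hx
    rw [hcard] at h3
    obtain ⟨w, hw⟩ := exists_prim (q := 2 ^ a) (e := 4) (by omega) (by norm_num) (by omega)
    have hw5 := prim_lt (by omega) (by norm_num) hw
    have hw1 : w ∣ (2 ^ a) ^ 2 + 1 := hw.dvd_add (by norm_num) (by norm_num)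
    rcases hw.prime.dvd_mul.1 ((hM w hw.prime (hw1.trans h4T)).trans h3) with h5 | h5
    · have h6 := od_N12 hw.prime h5
      rw [order_of_prim (by omega) hw] at h6
      omega
    · have h7 : w ∣ 2 ^ 2 * 3 := by simpa using h5
      rcases hw.prime.dvd_mul.1 h7 with h8 | h8
      · have := Nat.le_of_dvd (by norm_num) (hw.prime.dvd_of_dvd_pow h8)
        omega
      · have := Nat.le_of_dvd (by norm_num) h8
        omega
  · obtain ⟨W, hW, hpW, h1⟩ := D.t12.free_case D.hp hτ hop' (by rw [hcard]; exact hM 2 h2 h2T)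
      (fun s hs hsN => by rw [hcard]; exact hM s hs (hsN.trans h12T)) hq2 hA hAc ht htp hAt h12
    rw [hι] at hW
    exact case4 ha3 fun s hs hsN => (h1 s hs hsN).trans hW

end Cfsg.Agent.H946.Rad
end

-- part: H946/Inst
section
/-!
# The torus data of `G₂(q)`, `³D₄(q)`, `F₄(q)`, `²F₄(q)` (helper946)
-/

set_option autoImplicit false

namespace Cfsg.Agent.H946.Inst

open Cfsg Cfsg.Lie Cfsg.Lie.ChevalleyDatum
open Cfsg.Agent.BpExc.FamExt Cfsg.Agent.BpExc.FamUntw Cfsg.Agent.BpExc.FamInst Cfsg.Agent.BpExc.RowsUntw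
open Cfsg.Agent.H378.ExcAdj Cfsg.Agent.H378.RegFin
open Cfsg.Agent.H946.Num Cfsg.Agent.H946.Rad Cfsg.Agent.H436 Cfsg.Agent.H325.Loc Cfsg.Agent.H129 Cfsg.Agent.H129.CycT

universe u

theorem natAbs_cyc3 (q : ℕ) : ((Polynomial.cyclotomic 3 ℤ).eval (q : ℤ)).natAbs = N3 q := by
  have h : (Polynomial.cyclotomic 3 ℤ).eval (q : ℤ) = ((N3 q : ℕ) : ℤ) := by
    rw [Polynomial.cyclotomic_three]
    unfold N3
    push_cast
    simp
  rw [h, Int.natAbs_natCast]

theorem natAbs_cyc6 (q : ℕ) : ((Polynomial.cyclotomic 6 ℤ).eval (q : ℤ)).natAbs = N6 q := by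
  have h : (Polynomial.cyclotomic 6 ℤ).eval (q : ℤ) = ((N6 q : ℕ) : ℤ) := by
    rw [Polynomial.cyclotomic_six, cast_N6]
    simp
  rw [h, Int.natAbs_natCast]

theorem eval_cyc8 (q : ℤ) : (Polynomial.cyclotomic 8 ℤ).eval q = q ^ 4 + 1 := by
  have h := Polynomial.cyclotomic_expand_eq_cyclotomic Nat.prime_two (show 2 ∣ 4 by norm_num) ℤ
  have h' := Polynomial.cyclotomic_expand_eq_cyclotomic Nat.prime_two (show 2 ∣ 2 by norm_num) ℤ
  rw [show 2 * 2 = 4 from rfl, Polynomial.cyclotomic_two] at h'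
  rw [show 4 * 2 = 8 from rfl, ← h'] at h
  rw [← h, Polynomial.expand_eval, Polynomial.expand_eval]
  simp
  ring

theorem natAbs_cyc8 (q : ℕ) : ((Polynomial.cyclotomic 8 ℤ).eval (q : ℤ)).natAbs = N8 q := by
  have h : (Polynomial.cyclotomic 8 ℤ).eval (q : ℤ) = ((N8 q : ℕ) : ℤ) := by
    rw [eval_cyc8]
    unfold N8
    push_cast
    ring
  rw [h, Int.natAbs_natCast]

theorem charP_of {F : Type u} [Field F] [Fintype F] {p a : ℕ} (hp : p.Prime) (hF : Fintype.card F = p ^ a) :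
    CharP F p := by
  obtain ⟨r, hr⟩ := CharP.exists F
  obtain ⟨n, hn, hc⟩ := FiniteField.card F r
  have h5 : r = p := by
    have h6 : r ∣ p ^ a := by rw [← hF, hc]; exact dvd_pow_self _ n.pos.ne'
    exact (Nat.prime_dvd_prime_iff_eq hn hp).1 (hn.dvd_of_dvd_pow h6)
  exact h5 ▸ hr

section

variable {F : Type} [Field F] [Fintype F] {p a : ℕ}

theorem datG2 (hp : p.Prime) (ha : 0 < a) (hF : Fintype.card F = p ^ a) (h2 : 2 < p ^ a) :
    DatG2 ↥(chevG2.group F) p a := by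
  have hFc : Nat.card F = p ^ a := by rw [Nat.card_eq_fintype_card, hF]
  have h1q : 1 ≤ p ^ a := by omega
  refine ⟨hp, ha, h2, S1059.result hF, ?_, ?_, ?_⟩
  · intro x hx h3 hN
    have hod := od_N3 hx hN h3
    have h4 := cent_od g2T inv_G2 one_ne_zero hx (x := x) rfl (m := 3) (by rw [hFc]; exact hod) (by decide)
      (by norm_num)
    rw [hFc, natAbs_cyc3] at h4
    refine ⟨(at_G2_3 hF (N := N3 (p ^ a)) ?_ hx hN h3).isCyclic hx rfl, h4.2⟩
    unfold N3
    push_cast
    ring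
  · intro x hx h3 hN
    have hod := od_N6 hx hN h3
    have h4 := cent_od g2T inv_G2 one_ne_zero hx (x := x) rfl (m := 6) (by rw [hFc]; exact hod) (by decide)
      (by norm_num)
    rw [hFc, natAbs_cyc6] at h4
    refine ⟨(at_G2_6 hF (N := N6 (p ^ a)) ?_ hx hN h3).isCyclic hx rfl, h4.2⟩
    rw [cast_N6]
    ring
  · have := Fact.mk hp
    have := charP_of hp hF
    obtain ⟨w, hw⟩ := exists_prim (q := p ^ a) (e := 3) (by omega) le_rfl (by omega)
    refine ⟨w, hw.prime, ?_, H325.IsoExc.piso_G2 (by rw [hF]; exact h2) (Or.inl rfl) (by rw [hF]; exact hw)⟩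
    rw [S1059.result hF, ← six_factor]
    exact (((prim_N3 h1q hw).mul_right _).mul_left _).mul_left _

theorem datF4 (hp : p.Prime) (ha : 0 < a) (hF : Fintype.card F = p ^ a) : DatF4 ↥(chevF4.group F) p a := by
  have hFc : Nat.card F = p ^ a := by rw [Nat.card_eq_fintype_card, hF]
  have h1q : 1 ≤ p ^ a := Nat.one_le_pow _ _ hp.pos
  refine ⟨hp, ha, S1062.result hF, ?_, ?_⟩
  · intro x hx h3 hN
    have hex := exact_F4_12 (F := F) hF (N := N12 (p ^ a)) (by rw [cast_N12]; ring)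
    exact ⟨(hex.cycAt hx hN).isCyclic hx rfl, hex.card_centralizer hx hN rfl⟩
  · intro x hx h2 hN
    have hod := od_N8 hx hN h2
    have h4 := cent_od f4T inv_F4 one_ne_zero hx (x := x) rfl (m := 8) (by rw [hFc]; exact hod) (by decide)
      (by norm_num)
    rw [hFc, natAbs_cyc8] at h4
    refine ⟨(at_F4_8 hF (N := N8 (p ^ a)) ?_ hx hN h2).isCyclic hx rfl, h4.2⟩
    unfold N8
    push_cast
    ring

theorem isoF4 (hp : p.Prime) (ha : 0 < a) (hF : Fintype.card F = p ^ a) :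
    ∃ w, w.Prime ∧ w ∣ Nat.card ↥(chevF4.group F) ∧ PIso p w ↥(chevF4.group F) := by
  have h2q : 2 ≤ p ^ a := hp.two_le.trans (Nat.le_self_pow ha.ne' p)
  have := Fact.mk hp
  have := charP_of hp hF
  obtain ⟨w, hw⟩ := exists_prim (q := p ^ a) (e := 12) (by omega) (by norm_num) (by omega)
  exact ⟨w, hw.prime, (prim_N12 (by omega) hw).trans (datF4 hp ha hF).dvd12,
    H325.IsoExc.piso_F4 (Or.inr rfl) (by rw [hF]; exact hw)⟩

end

section

variable {K : Type} [Field K] [Fintype K] {p a : ℕ}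

theorem datD4 (hp : p.Prime) (ha : 0 < a) (hK : Fintype.card K = (p ^ a) ^ 3) :
    DatD4 ↥(twistedD4 K (p ^ a)) p a := by
  have h2q : 2 ≤ p ^ a := hp.two_le.trans (Nat.le_self_pow ha.ne' p)
  have hq : IsPrimePow (p ^ a) := hp.isPrimePow.pow ha.ne'
  have hcard : Nat.card ↥(twistedD4 K (p ^ a)) =
      (p ^ a) ^ 12 * ((p ^ a) ^ 8 + (p ^ a) ^ 4 + 1) * ((p ^ a) ^ 6 - 1) * ((p ^ a) ^ 2 - 1) := by
    rw [S1067.result hq hK]; ring
  refine ⟨hp, ha, hcard, ?_, ?_⟩
  · intro x hx h3 hN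
    have hex := exact_tD4_12 (F := K) hq hK (N := N12 (p ^ a)) (by rw [cast_N12]; ring)
    exact ⟨(hex.cycAt hx hN).isCyclic hx rfl, hex.card_centralizer hx hN rfl⟩
  · have := Fact.mk hp
    have := charP_of (F := K) hp (a := a * 3) (by rw [hK, pow_mul])
    obtain ⟨w, hw⟩ := exists_prim (q := p ^ a) (e := 12) (by omega) (by norm_num) (by omega)
    refine ⟨w, hw.prime, ?_, H325.IsoExc.piso_twD4 hq hK hw⟩
    rw [hcard, d4_card]
    exact (prim_N12 (by omega) hw).mul_right _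

end

section

variable {K : Type} [Field K] [Fintype K] {m : ℕ} (hm : 1 ≤ m) (hK : Fintype.card K = 2 ^ (2 * m + 1))

include hm hK

theorem isoTF4 : ∃ w, w.Prime ∧ w ∣ Nat.card ↥(twistedF4 K (2 ^ m)) ∧ PIso 2 w ↥(twistedF4 K (2 ^ m)) := by
  obtain ⟨w, hw⟩ := exists_prim (q := 2) (e := 12 * (2 * m + 1)) (by omega) (by omega) (by omega)
  refine ⟨w, hw.prime, ?_, H325.IsoTwF4.piso_twF4 hm hK hw⟩
  rw [S1068.result hK]
  refine (Dvd.dvd.mul_left ?_ _)
  rw [← pow_mul]
  exact hw.dvd_add (by ring_nf; exact dvd_rfl) (by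
    intro h
    have := Nat.le_of_dvd (by omega) h
    omega)

end

end Cfsg.Agent.H946.Inst
end
end

-- part: H983/ElG/RowG2
section
set_option linter.all false
open scoped Cfsg.Agent.FastGrp

-- part: H983/ElG/Base
section
/-!
# TEAM ELUSIVE, rows `G₂(q)`, `³D₄(q)`: the socle of a full subgroup with trivial solvable radical (helper983)

* `socle` : `R ≤ T` with trivial solvable radical, a class `r₀` with centralisers of odd order: the simple socle;
* `type` : its type: characteristic `p`, or a survivor of `ElTab.surv`.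
-/

set_option autoImplicit false

namespace Cfsg.Agent.H983.ElG

open Cfsg Cfsg.Agent.OrdDiv Cfsg.Agent.H902 Cfsg.Agent.H902.Names Cfsg.Agent.H290.ElReg Cfsg.Agent.H290.ElTab
  Cfsg.Agent.H290.ElCross Cfsg.Agent.H290.ElEng Cfsg.Agent.H290.ElRich Cfsg.Agent.H290.ElMain
open Cfsg.Agent.H436 (Prim IsNamed Cond)
open Cfsg.Agent.H915.GN (HasChar)
open Cfsg.Agent.H264.FKS (exists_lie)

/-- the order of a group with trivial solvable radical is even -/
theorem two_dvd {R : Type*} [Group R] [Finite R] (hrad : ∀ S : Subgroup R, S.Normal → Group.IsSolvable S → S = ⊥)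
    (hne : Nat.card R ≠ 1) : 2 ∣ Nat.card R := by
  by_contra h2
  have h1 : Group.IsSolvable R := Cfsg.Agent.S0205.result (Nat.not_even_iff_odd.1 fun h3 => h2 (even_iff_two_dvd.1 h3))
  have h3 : Group.IsSolvable (⊤ : Subgroup R) := inferInstance
  have h4 := hrad ⊤ inferInstance h3
  apply hne
  rw [← Subgroup.card_top, h4, Subgroup.card_bot]

/-- **The socle.** -/
theorem socle (hrf : RichFix.{0}) (has : ASThm.{0}) {T : Type} [Group T] [Finite T] {R : Subgroup T}
    (hrad : ∀ S : Subgroup R, S.Normal → Group.IsSolvable S → S = ⊥) {r₀ m₀ : ℕ} (h3 : Tc T r₀ m₀) (h4 : ¬ 2 ∣ m₀)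
    (h5 : r₀ ∣ Nat.card R) :
    ∃ S : Subgroup R, S.Normal ∧ IsSimpleGroup S ∧ ¬ IsMulCommutative S ∧
      Subgroup.centralizer (S : Set R) = ⊥ ∧ ∀ r, Ab T r → r ∣ Nat.card R → r ∣ Nat.card S := by
  have hr₀2 : r₀ ≠ 2 := by
    rintro rfl
    exact h4 h3.dvd_m
  have hne : Nat.card R ≠ 1 := by
    intro h
    rw [h] at h5
    exact h3.prime.one_lt.ne' (Nat.dvd_one.1 h5)
  obtain ⟨S, hSn, hSs, hSna, hSc⟩ := exists_socle has hrad (two_dvd hrad hne) h3.prime hr₀2
    h5 (by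
      intro g hg
      have h5 : orderOf (g ^ 2) = r₀ := by
        rw [orderOf_pow' g (by norm_num), hg, Nat.gcd_mul_right_left, Nat.mul_div_cancel_left _ (by norm_num)]
      have h6 := h3.free Nat.prime_two h4 R.subtype R.subtype_injective (x := g ^ 2) (a := g ^ r₀) h5 (by
        rw [← pow_mul, mul_comm, ← hg, pow_orderOf_eq_one]) (by rw [← pow_add, ← pow_add, add_comm])
      have h7 := orderOf_dvd_of_pow_eq_one h6
      rw [hg] at h7
      have := Nat.le_of_dvd h3.prime.pos h7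
      have := h3.prime.pos
      omega)
  exact ⟨S, hSn, hSs, hSna, hSc, fun r h hr => dvd_socle_rich hrf hSn hSs hSna h.prime
    hr (fun x hx => h.nilp R.subtype R.subtype_injective x hx)⟩

/-- **The type of the socle.** -/
theorem type {Y : Art.Sh} (hY : Y ∈ exl) {n : ℕ} (hn : n ≤ 248) (hsS : survS Y = [])
    {p f : ℕ} (hp : p.Prime) (hf : 1 ≤ f)
    (hok : Art.Ok Y p f) {F : Type} [Field F] [CharP F p] {R : Type} [Group R] [Finite R] (hF : Fth n F R)
    {S : Subgroup R} [S.Normal] (hSs : IsSimpleGroup S) (hna : ¬ IsMulCommutative S)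
    (hSc : Subgroup.centralizer (S : Set R) = ⊥) {g : Grp} (hg : IsNamed g S) (halt : ∀ m, g ≠ .alt m)
    (hall : ∀ r, r.Prime → r ∣ OT Y p f → r ∣ 6 ∨ r ∣ Nat.card R)
    (hreg : ∀ e ∈ ER Y, ∀ r, Prim p (e * f) r → r ∣ Nat.card S) (hd : Nat.card S ∣ OT Y p f) :
    HasChar p g ∨ ∃ X l a, l ≠ p ∧ IsLie g X l a ∧ Art.Real X l a (Nat.card S) ∧ lb X (l ^ a) ≤ n ∧
      ((X, (l, a)), (p, f)) ∈ surv n Y := by
  rcases char_of_cond hg.cond with ⟨m, -, rfl⟩ | h | ⟨l, hl, h⟩
  · exact absurd rfl (halt m)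
  · exfalso
    obtain ⟨x, hx, rfl⟩ := List.mem_map.1 h
    have hc : Nat.card S = x.2 := hg.ord.trans (spor_ord x hx)
    have h1 : (x.2, (p, f)) ∈ survS Y := mem_survS hY hx hp hf hok (fun r hr hrd => by
      rcases hall r hr hrd with h6 | h6
      · exact h6.trans (H290.ElFin.six_dvd x hx)
      rw [← hc]
      refine H290.ElFin.prime_dvd_of_oddInn hSc (H290.ElFin.oddInn_of_spor hx hg.real) ?_ hr h6
      have hns : ¬ Group.IsSolvable S := fun hs => hna ⟨⟨IsSimpleGroup.comm_iff_isSolvable.2 hs⟩⟩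
      by_contra h2
      exact hns (Cfsg.Agent.S0205.result (Nat.not_even_iff_odd.1 fun h3 => h2 (even_iff_two_dvd.1 h3)))) (hc ▸ hd)
    rw [hsS] at h1
    exact absurd h1 (by simp)
  · by_cases hlp : l = p
    · exact Or.inl (hlp ▸ h)
    · right
      obtain ⟨X, a, h1, h2, -⟩ := exists_lie hl hg h
      have hlb : lb X (l ^ a) ≤ n := by
        refine lb_le (fun hcc => hna ⟨⟨hcc⟩⟩) hn (hF.sub S.subtype S.subtype_injective) h1 hg.real h2
          (fun h0 => hlp ?_)
        exact ((Nat.prime_dvd_prime_iff_eq hp hl).1 ((CharP.cast_eq_zero_iff F p l).1 h0)).symm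
      refine ⟨X, l, a, hlp, h1, h2, hlb, mem_surv hn hY h2 hlb hp hf (fun h => hlp h.symm) hok (fun r hr hrd => ?_)
        hreg hd⟩
      rcases hall r hr hrd with h6 | h6
      · exact (((h6.trans (by norm_num : 6 ∣ 24)).mul_right _).mul_right _).mul_right _
      · exact H290.ElFin.prime_dvd_NA hna h1 hg.real h2 hr (h6.trans (H290.ElEng.card_dvd_aut hSc))

end Cfsg.Agent.H983.ElG
end

-- part: H983/ElG/RowG2
section
/-!
# TEAM ELUSIVE, the row `G₂(q)`, `q > 2` (helper983)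

`full_G2` : `T ≅ G₂(q)`, `R ≤ T`, `π(R) = π(T)`: `R = T`, or `q = 3` and `R` is almost simple with socle `PSL₂(13)`.
-/

set_option autoImplicit false

namespace Cfsg.Agent.H983.ElG

open Cfsg Cfsg.Lie Cfsg.Agent.OrdDiv Cfsg.Agent.H902 Cfsg.Agent.H902.Names Cfsg.Agent.H290.ElReg
  Cfsg.Agent.H290.ElTab Cfsg.Agent.H290.ElCross Cfsg.Agent.H290.ElEng Cfsg.Agent.H290.ElRich Cfsg.Agent.H290.ElMain
open Cfsg.Agent.H436 (Prim IsNamed Cond exists_prim)
open Cfsg.Agent.H915.GN (HasChar)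
open Cfsg.Agent.H264.FKS (Full)
open Cfsg.Agent.H946.Num Cfsg.Agent.H946.Rad Cfsg.Agent.H946.Inst

/-! ### transport -/

theorem cent_map {T T' : Type*} [Group T] [Group T'] (e : T ≃* T') (x : T') :
    (Subgroup.centralizer ({e.symm x} : Set T)).map e.toMonoidHom = Subgroup.centralizer ({x} : Set T') := by
  ext y
  constructor
  · rintro ⟨z, hz, rfl⟩
    have hz' := Subgroup.mem_centralizer_singleton_iff.1 hz
    rw [Subgroup.mem_centralizer_singleton_iff]
    have := congrArg e hz'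
    simpa using this
  · intro hy
    rw [Subgroup.mem_centralizer_singleton_iff] at hy
    refine ⟨e.symm y, ?_, by simp⟩
    show e.symm y ∈ Subgroup.centralizer ({e.symm x} : Set T)
    rw [Subgroup.mem_centralizer_singleton_iff, ← map_mul, ← map_mul, hy]

/-- the isomorphism of the centralisers -/
noncomputable def centEquiv {T T' : Type*} [Group T] [Group T'] (e : T ≃* T') (x : T') :
    ↥(Subgroup.centralizer ({e.symm x} : Set T)) ≃* ↥(Subgroup.centralizer ({x} : Set T')) :=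
  ((Subgroup.centralizer ({e.symm x} : Set T)).equivMapOfInjective e.toMonoidHom e.injective).trans
    (MulEquiv.subgroupCongr (cent_map e x))

theorem orderOf_symm {T T' : Type*} [Group T] [Group T'] (e : T ≃* T') (x : T') : orderOf (e.symm x) = orderOf x :=
  orderOf_injective e.symm.toMonoidHom e.symm.injective x

theorem torD_congr {T T' : Type*} [Group T] [Group T'] (e : T ≃* T') {N b : ℕ} (h : TorD T N b) : TorD T' N b := by
  intro x hx hb hN
  have h1 := h (e.symm x) (by rw [orderOf_symm]; exact hx) (by rw [orderOf_symm]; exact hb)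
    (by rw [orderOf_symm]; exact hN)
  have hc := h1.1
  refine ⟨isCyclic_of_surjective (centEquiv e x).toMonoidHom (centEquiv e x).surjective, ?_⟩
  rw [← Nat.card_congr (centEquiv e x).toEquiv]
  exact h1.2

theorem tor_congr {T T' : Type*} [Group T] [Group T'] (e : T ≃* T') {N b : ℕ} (h : Tor T N b) : Tor T' N b := by
  intro x hx hb hN
  have h1 := h (e.symm x) (by rw [orderOf_symm]; exact hx) (by rw [orderOf_symm]; exact hb)
    (by rw [orderOf_symm]; exact hN)
  have hc := h1.1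
  refine ⟨isCyclic_of_surjective (centEquiv e x).toMonoidHom (centEquiv e x).surjective, ?_⟩
  rw [← Nat.card_congr (centEquiv e x).toEquiv]
  exact h1.2

theorem iso_congr {T T' : Type*} [Group T] [Group T'] (e : T ≃* T') {p : ℕ}
    (h : ∃ w, w.Prime ∧ w ∣ Nat.card T ∧ H325.Loc.PIso p w T) :
    ∃ w, w.Prime ∧ w ∣ Nat.card T' ∧ H325.Loc.PIso p w T' := by
  obtain ⟨w, h1, h2, h3⟩ := h
  exact ⟨w, h1, by rw [← Nat.card_congr e.toEquiv]; exact h2, h3.congr e⟩

theorem datG2_congr {T T' : Type*} [Group T] [Group T'] (e : T ≃* T') {p a : ℕ} (D : DatG2 T p a) : DatG2 T' p a where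
  hp := D.hp
  ha := D.ha
  h2 := D.h2
  card := by rw [← Nat.card_congr e.toEquiv]; exact D.card
  t3 := torD_congr e D.t3
  t6 := torD_congr e D.t6
  iso := iso_congr e D.iso

theorem datD4_congr {T T' : Type*} [Group T] [Group T'] (e : T ≃* T') {p a : ℕ} (D : DatD4 T p a) : DatD4 T' p a where
  hp := D.hp
  ha := D.ha
  card := by rw [← Nat.card_congr e.toEquiv]; exact D.card
  t12 := tor_congr e D.t12
  iso := iso_congr e D.iso

/-- the classes -/
theorem tc_of_torD {T : Type*} [Group T] [Finite T] {N b r : ℕ} (h : TorD T N b) (hr : r.Prime) (hb : r ≠ b)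
    (hrN : r ∣ N) (hN : N ∣ Nat.card T) : Tc T r N := by
  refine ⟨⟨hr, hrN.trans hN, fun x hx a b ha hb' => ?_⟩, fun x hx => ?_⟩
  · obtain ⟨h1, -⟩ := h x (by rw [hx]; exact hr) (by rw [hx]; exact hb) (by rw [hx]; exact hrN)
    have h2 := (IsCyclic.commGroup (α := Subgroup.centralizer ({x} : Set T))).mul_comm
      ⟨a, Subgroup.mem_centralizer_singleton_iff.2 ha⟩ ⟨b, Subgroup.mem_centralizer_singleton_iff.2 hb'⟩
    exact congrArg Subtype.val h2
  · exact (h x (by rw [hx]; exact hr) (by rw [hx]; exact hb) (by rw [hx]; exact hrN)).2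

/-! ### `G₂(q)` -/

theorem odd_N3 (q : ℕ) : ¬ 2 ∣ N3 q := by
  unfold N3
  have h : 2 ∣ q ^ 2 + q := by
    have := (Nat.even_mul_succ_self q).two_dvd
    have h2 : q * (q + 1) = q ^ 2 + q := by ring
    rwa [h2] at this
  omega

theorem ne_three_of_prim {q e r : ℕ} (he : 3 ≤ e) (hq : 1 ≤ q) (h : Prim q e r) : r ≠ 3 := by
  rintro rfl
  have := prim_lt hq (by omega) h
  omega

/-- the order formula -/
theorem card_G2 {p f : ℕ} {T : Type*} [Group T] (D : DatG2 T p f) : Nat.card T = OT .G2 p f := by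
  rw [D.card]
  show _ = (p ^ f) ^ 6 * (((p ^ f) ^ 2 - 1) * ((p ^ f) ^ 6 - 1))
  ring

/-- **`G₂(q)`, `q > 2`.** -/
theorem full_G2 (has : ASThm.{0}) (hrf : RichFix.{0})
    (hnm : ∀ (S : Type) [Group S] [Finite S] [IsSimpleGroup S], ¬ IsMulCommutative S → ∃ g, IsNamed g S)
    {p f : ℕ} (hp : p.Prime) (hf : 1 ≤ f) {T : Type} [Group T] [Finite T] (hT : IsNamed (.g2 (p ^ f)) T)
    {R : Subgroup T} (hfull : Full T R) : R = ⊤ ∨ (p ^ f = 3 ∧ ∃ S : Subgroup R, S.Normal ∧ IsSimpleGroup S ∧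
      ¬ IsMulCommutative S ∧ Subgroup.centralizer (S : Set R) = ⊥ ∧ OrdDiv.Real (.psl 2 13) S) := by
  obtain ⟨F, _, _, hF, ⟨e⟩⟩ := hT.real
  have hpF := Fact.mk hp
  have hch : CharP F p := charP_of_pow hp hF
  have h3q : 3 ≤ p ^ f := hT.cond.1
  have D : DatG2 T p f := datG2_congr e.symm (datG2 hp hf hF h3q)
  have hcard : Nat.card T = OT .G2 p f := card_G2 D
  have hidx : Fintype.card chevG2.Idx = 14 := by
    show Fintype.card (Fin 2 ⊕ Fin 12) = 14
    rw [Fintype.card_sum, Fintype.card_fin, Fintype.card_fin]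
  have hFth : Fth 14 F T := ((hidx ▸ Fth.of (ι := chevG2.Idx) (F := F) (ρ := (chevG2.group F).subtype)
      (Subgroup.subtype_injective _)) : Fth 14 F ↥(chevG2.group F)).congr e.symm
  obtain ⟨τ, hτ⟩ := id hFth
  have hrad : ∀ S : Subgroup R, S.Normal → Group.IsSolvable S → S = ⊥ := fun S hS hSs =>
    D.rad hfull (Fintype.card_fin 14) hτ S hS hSs
  have tc3 : ∀ r, Prim (p ^ f) 3 r → Tc T r (N3 (p ^ f)) := fun r hr =>
    tc_of_torD D.t3 hr.prime (ne_three_of_prim le_rfl (by omega) hr) (prim_N3 (by omega) hr) D.dvd3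
  have tc6 : ∀ r, Prim (p ^ f) 6 r → Tc T r (N6 (p ^ f)) := fun r hr =>
    tc_of_torD D.t6 hr.prime (ne_three_of_prim (by norm_num) (by omega) hr) (prim_N6 (by omega) hr) D.dvd6
  obtain ⟨r3, p3⟩ := exists_prim (q := p ^ f) (e := 3) (by omega) le_rfl (by omega)
  obtain ⟨r6, p6⟩ := exists_prim (q := p ^ f) (e := 6) (by omega) (by norm_num) (by omega)
  obtain ⟨S, hSn, hSs, hSna, hSc, hdS⟩ := socle hrf has hrad (tc3 r3 p3) (odd_N3 _)
    (hfull r3 p3.prime (tc3 r3 p3).dvd)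
  obtain ⟨g, hg⟩ := hnm S hSna
  have hdA : ∀ r, Ab T r → r ∣ Nat.card S := fun r h => hdS r h (hfull r h.prime h.dvd)
  have halt : ∀ m, g ≠ .alt m := by
    rintro m rfl
    obtain ⟨k, hk⟩ := mod_of_prim p3 (by omega)
    obtain ⟨k', hk'⟩ := mod_of_prim p6 (by omega)
    have hr3 := p3.prime.two_le
    have hr6 := p6.prime.two_le
    have ho3 := p3.odd (by norm_num)
    have hne : r3 ≠ r6 := fun h => by have := (h ▸ p3).unique p6; omega
    obtain ⟨e'⟩ := hg.real
    have h9 : 5 ≤ m := hg.cond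
    have key : ∀ r s, Ab T r → Ab T s → 5 ≤ r → r + 4 ≤ s → False := fun r s hr hs h5 h4 =>
      not_alt hr.prime hs.prime h5 h4 (by omega) e' (hdA r hr) (hdA s hs) (fun x hx =>
        hr.nilp (R.subtype.comp S.subtype) (R.subtype_injective.comp S.subtype_injective) x hx)
    rcases Nat.lt_or_gt_of_ne hne with h | h
    · exact key r3 r6 (tc3 r3 p3).toAb (tc6 r6 p6).toAb (by omega) (by omega)
    · exact key r6 r3 (tc6 r6 p6).toAb (tc3 r3 p3).toAb (by omega) (by omega)
  have hd : Nat.card S ∣ OT .G2 p f :=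
    ((Subgroup.card_subgroup_dvd_card S).trans (Subgroup.card_subgroup_dvd_card R)).trans hcard.dvd
  rcases type (Y := .G2) (by decide) (n := 14) (by norm_num) survS_G2 hp hf h3q
    (hFth.sub R.subtype R.subtype_injective) hSs hSna hSc hg halt
    (fun r hr hd => Or.inr (hfull r hr (hcard ▸ hd)))
    (fun e' he r hr => by
      have hr' := Prim.powBase hf hr
      have he : e' = 6 ∨ e' = 3 := by simpa [ER] using he
      rcases he with rfl | rfl
      · exact hdA r (tc6 r hr').toAb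
      · exact hdA r (tc3 r hr').toAb) hd with h | ⟨X, l, a, hlp, h1, h2, -, h4⟩
  · exact Or.inl (H325.Same.row_g2 hT hp hf hfull S hSna hSc hg h)
  · right
    rw [surv_G2, List.mem_singleton, Prod.mk.injEq, Prod.mk.injEq, Prod.mk.injEq, Prod.mk.injEq] at h4
    obtain ⟨⟨rfl, rfl, rfl⟩, rfl, rfl⟩ := h4
    refine ⟨by norm_num, S, hSn, hSs, hSna, hSc, ?_⟩
    have hgr := hg.real
    cases h1
    simpa using hgr

end Cfsg.Agent.H983.ElG
end
end

-- part: H983/ElG/RowD4
section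
prune_inst 0x101000410000000000000000001c4282000400000880000000000004880e4000000020802000000000800400340040000000000000000000000000011c0080000002020040a000000000000000000000000000000000000000000000000000000000000
set_option linter.all false
open scoped Cfsg.Agent.FastGrp

-- part: H946/NCTools
section
/-!
# Normalisers of subgroups of prime order in alternating groups and in subgroups (helper946)
-/

set_option autoImplicit false

namespace Cfsg.Agent.H946.Rad

open Equiv Equiv.Perm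

/-- in `A_m` an element of prime order `r` is conjugate to its powers with square exponents -/
theorem alt_conj {m r : ℕ} (hr : r.Prime) (hr2 : r ≠ 2) (hrm : r ≤ m) :
    ∃ x : alternatingGroup (Fin m), orderOf x = r ∧ ∀ k : ℕ, k.Coprime r →
      ∃ g : alternatingGroup (Fin m), g * x * g⁻¹ = x ^ (k ^ 2) := by
  obtain ⟨σ, hσ⟩ := (Equiv.Perm.exists_with_cycleType_iff (α := Fin m) (m := {r})).2
    ⟨by simpa only [_root_.Multiset.sum_singleton, _root_.Fintype.card_fin] using hrm, by intro a ha; rw [Multiset.mem_singleton.1 ha]; exact hr.two_le⟩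
  have hord : orderOf σ = r := by rw [← lcm_cycleType, hσ]; simp
  have hcyc : IsCycle σ := by
    rw [← card_cycleType_eq_one, hσ]; rfl
  have hsign : sign σ = 1 := by
    rw [sign_of_cycleType, hσ]
    simp only [Multiset.sum_singleton, Multiset.card_singleton]
    have := hr.eq_two_or_odd
    have hodd : Odd r := hr.odd_of_ne_two hr2
    exact Even.neg_one_pow (by obtain ⟨j, hj⟩ := hodd; exact ⟨j + 1, by omega⟩)
  refine ⟨⟨σ, hsign⟩, by rw [← Subgroup.orderOf_coe]; exact hord, fun k hk => ?_⟩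
  have h1 : IsConj σ (σ ^ k) := by
    rw [isConj_iff_cycleType_eq]
    have h2 : IsCycle (σ ^ k) := (hcyc.pow_iff).2 (by rw [hord]; exact hk)
    have h3 : (σ ^ k).support = σ.support := Equiv.Perm.support_pow_coprime (by rw [hord]; exact hk)
    rw [hcyc.cycleType, h2.cycleType, h3]
  obtain ⟨τ, hτ⟩ := isConj_iff.1 h1
  refine ⟨⟨τ ^ 2, ?_⟩, ?_⟩
  · rw [mem_alternatingGroup, map_pow]
    exact Int.units_sq _
  · apply Subtype.ext
    show τ ^ 2 * σ * (τ ^ 2)⁻¹ = σ ^ (k ^ 2)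
    have h4 : τ ^ 2 * σ * (τ ^ 2)⁻¹ = τ * (τ * σ * τ⁻¹) * τ⁻¹ := by rw [sq, mul_inv_rev]; simp only [mul_assoc]
    rw [h4, hτ]
    have h5 : τ * σ ^ k * τ⁻¹ = (τ * σ * τ⁻¹) ^ k := by rw [conj_pow]
    rw [h5, hτ, ← pow_mul, sq]

/-- powers of normalising elements centralise -/
theorem norm_pow {T : Type*} [Group T] [Finite T] {x : T} {n : ℕ}
    (h : Nat.card ↥(Subgroup.normalizer (Subgroup.zpowers x : Set T)) ∣
      Nat.card ↥(Subgroup.centralizer ({x} : Set T)) * n) {g : T}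
    (hg : g ∈ Subgroup.normalizer (Subgroup.zpowers x : Set T)) : Commute (g ^ n) x := by
  let N := Subgroup.normalizer (Subgroup.zpowers x : Set T)
  have hx : x ∈ Subgroup.zpowers x := Subgroup.mem_zpowers x
  let φ : ↥N →* MulAut ↥(Subgroup.zpowers x) := Subgroup.normalizerMonoidHom _
  have hφ : ∀ y : ↥N, φ y = 1 ↔ (y : T) ∈ Subgroup.centralizer ({x} : Set T) := by
    intro y
    have e : ∀ z : ↥(Subgroup.zpowers x), ((φ y z : ↥(Subgroup.zpowers x)) : T) = (y : T) * z * (y : T)⁻¹ := fun z => rfl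
    constructor
    · intro h
      have h1 := e ⟨x, hx⟩
      rw [h] at h1
      have h2 : x = (y : T) * x * (y : T)⁻¹ := h1
      rw [Subgroup.mem_centralizer_singleton_iff]
      have h3 := congrArg (fun z => z * (y : T)) h2
      simpa only [_root_.inv_mul_cancel_right] using h3.symm
    · intro h
      rw [Subgroup.mem_centralizer_singleton_iff] at h
      ext z
      rw [e z]
      obtain ⟨k, hk⟩ := Subgroup.mem_zpowers_iff.1 z.2
      rw [← hk]
      have h1 : Commute (y : T) (x ^ k) := Commute.zpow_right h k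
      show (y : T) * x ^ k * (y : T)⁻¹ = ((1 : MulAut ↥(Subgroup.zpowers x)) z : T)
      rw [h1.eq, mul_inv_cancel_right, hk]
      rfl
  have h1 : Nat.card ↥φ.ker = Nat.card ↥(Subgroup.centralizer ({x} : Set T)) := by
    refine Nat.card_congr ⟨fun y => ⟨y.1.1, (hφ y.1).1 y.2⟩, fun y => ⟨⟨y.1, ?_⟩, ?_⟩, fun y => rfl, fun y => rfl⟩
    · show (y : T) ∈ Subgroup.normalizer (Subgroup.zpowers x : Set T)
      have h3 := Subgroup.mem_centralizer_singleton_iff.1 y.2
      rw [Subgroup.mem_normalizer_iff]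
      intro z
      constructor
      · intro hz
        obtain ⟨k, rfl⟩ := Subgroup.mem_zpowers_iff.1 hz
        have h4 : Commute (y : T) (x ^ k) := Commute.zpow_right h3 k
        rw [h4.eq, mul_inv_cancel_right]
        exact hz
      · intro hz
        obtain ⟨k, hk⟩ := Subgroup.mem_zpowers_iff.1 hz
        have h4 : Commute (y : T) (x ^ k) := Commute.zpow_right h3 k
        have h5 : z = x ^ k := by
          have h6 : z = (y : T)⁻¹ * x ^ k * y := by rw [hk]; group
          rw [h6, mul_assoc, ← h4.eq, inv_mul_cancel_left]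
        rw [h5]
        exact Subgroup.zpow_mem_zpowers x k
    · exact (hφ _).2 y.2
  have h2 := φ.ker.card_eq_card_quotient_mul_card_subgroup
  rw [Nat.card_congr (QuotientGroup.quotientKerEquivRange φ).toEquiv, h1] at h2
  have h3 : Nat.card ↥φ.range ∣ n := by
    have h4 : Nat.card ↥φ.range * Nat.card ↥(Subgroup.centralizer ({x} : Set T)) ∣
        n * Nat.card ↥(Subgroup.centralizer ({x} : Set T)) := by
      rw [← h2, mul_comm n]; exact h
    exact (Nat.mul_dvd_mul_iff_right Nat.card_pos).1 h4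
  have h5 : φ (⟨g, hg⟩ ^ n) = 1 := by
    rw [map_pow]
    have h6 : (⟨φ ⟨g, hg⟩, ⟨g, hg⟩, rfl⟩ : ↥φ.range) ^ n = 1 := by
      obtain ⟨c, rfl⟩ := h3
      rw [pow_mul, pow_card_eq_one', one_pow]
    exact congrArg Subtype.val h6
  have h7 := (hφ _).1 h5
  exact Subgroup.mem_centralizer_singleton_iff.1 h7

/-- `A_m` in a group where `|N(⟨x⟩) : C(x)|` divides `n` -/
theorem alt_bound {T : Type*} [Group T] [Finite T] {S : Type*} [Group S] {f : S →* T} (hf : Function.Injective f)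
    {m r n : ℕ} (hr : r.Prime) (hr2 : r ≠ 2) (hrm : r ≤ m) (e : S ≃* alternatingGroup (Fin m))
    (h : ∀ x : T, orderOf x = r → Nat.card ↥(Subgroup.normalizer (Subgroup.zpowers x : Set T)) ∣
      Nat.card ↥(Subgroup.centralizer ({x} : Set T)) * n) : r - 1 ∣ 2 * n := by
  have := Fact.mk hr
  obtain ⟨x, hx, hconj⟩ := alt_conj hr hr2 hrm
  let F : alternatingGroup (Fin m) →* T := f.comp e.symm.toMonoidHom
  have hF : Function.Injective F := hf.comp e.symm.injective
  have hFx : orderOf (F x) = r := by rw [orderOf_injective F hF, hx]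
  obtain ⟨k, hk⟩ := IsCyclic.exists_generator (α := (ZMod r)ˣ)
  have hk0 : orderOf k = r - 1 := by
    rw [orderOf_eq_card_of_forall_mem_zpowers hk, Nat.card_eq_fintype_card, ZMod.card_units]
  let K : ℕ := (k : ZMod r).val
  have hK : (K : ZMod r) = (k : ZMod r) := ZMod.natCast_zmod_val _
  have hcop : K.Coprime r := by
    rw [Nat.coprime_comm, Nat.Prime.coprime_iff_not_dvd hr, ← ZMod.natCast_eq_zero_iff, hK]
    exact k.ne_zero
  obtain ⟨g, hg⟩ := hconj K hcop
  have hFg : F g * F x * (F g)⁻¹ = F x ^ (K ^ 2) := by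
    rw [← map_inv, ← map_mul, ← map_mul, hg, map_pow]
  have hpow : ∀ j : ℕ, F g ^ j * F x * (F g ^ j)⁻¹ = F x ^ ((K ^ 2) ^ j) := by
    intro j
    induction j with
    | zero => simp
    | succ j ih =>
      have h1 : F g ^ (j + 1) * F x * (F g ^ (j + 1))⁻¹ = F g * (F g ^ j * F x * (F g ^ j)⁻¹) * (F g)⁻¹ := by
        rw [pow_succ']; group
      rw [h1, ih, ← conj_pow, hFg, ← pow_mul]
      congr 1
      ring
  have hmem : F g ∈ Subgroup.normalizer (Subgroup.zpowers (F x) : Set T) := by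
    have h1 : (Subgroup.zpowers (F x)).map (MulAut.conj (F g)).toMonoidHom = Subgroup.zpowers (F x) := by
      apply Subgroup.eq_of_le_of_card_ge
      · rw [MonoidHom.map_zpowers, Subgroup.zpowers_le]
        show F g * F x * (F g)⁻¹ ∈ Subgroup.zpowers (F x)
        rw [hFg]
        exact Subgroup.pow_mem _ (Subgroup.mem_zpowers _) _
      · rw [Subgroup.card_map_of_injective (MulAut.conj (F g)).injective]
    rw [Subgroup.mem_normalizer_iff]
    intro z
    constructor
    · intro hz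
      rw [← h1]
      exact ⟨z, hz, rfl⟩
    · intro hz
      rw [← h1] at hz
      obtain ⟨w, hw, hwz⟩ := hz
      have h2 : F g * w * (F g)⁻¹ = F g * z * (F g)⁻¹ := hwz
      have h3 : w = z := by simpa only [_root_.mul_left_inj, _root_.mul_right_inj] using h2
      rw [← h3]
      exact hw
  have h8 := norm_pow (h (F x) hFx) hmem
  have h9 : F x ^ ((K ^ 2) ^ n) = F x ^ 1 := by
    rw [← hpow n, h8.eq, mul_inv_cancel_right, pow_one]
  have h10 := (pow_eq_pow_iff_modEq).1 h9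
  rw [hFx] at h10
  have h11 : ((K : ZMod r) ^ (2 * n)) = 1 := by
    have := (ZMod.natCast_eq_natCast_iff _ _ _).2 h10
    push_cast at this
    rw [← pow_mul] at this
    exact this
  rw [hK, ← Units.val_pow_eq_pow_val] at h11
  have h12 : k ^ (2 * n) = 1 := Units.ext (by rw [h11]; rfl)
  rw [← hk0]
  exact orderOf_dvd_of_pow_eq_one h12

end Cfsg.Agent.H946.Rad
end

-- part: H983/ElG/RowD4
section
/-!
# TEAM ELUSIVE, the row `³D₄(q)` (helper983)

`full_TD4` : `T ≅ ³D₄(q)`, `R ≤ T`, `π(R) = π(T)`: `R = T`.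
-/

set_option autoImplicit false

namespace Cfsg.Agent.H983.ElG

open Cfsg Cfsg.Lie Cfsg.Agent.OrdDiv Cfsg.Agent.H902 Cfsg.Agent.H902.Names Cfsg.Agent.H290.ElReg
  Cfsg.Agent.H290.ElTab Cfsg.Agent.H290.ElCross Cfsg.Agent.H290.ElEng Cfsg.Agent.H290.ElRich Cfsg.Agent.H290.ElMain
open Cfsg.Agent.H436 (Prim IsNamed Cond exists_prim)
open Cfsg.Agent.H915.GN (HasChar)
open Cfsg.Agent.H264.FKS (Full)
open Cfsg.Agent.H946.Num Cfsg.Agent.H946.Rad Cfsg.Agent.H946.Inst
open Matrix

/-- `PSL₂(13)` contains an element `y ≠ 1` of order 13 conjugate to its third power -/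
theorem exists_third {F : Type} [Field F] [Fintype F] (hF : Fintype.card F = 13) :
    ∃ y w : Matrix.ProjectiveSpecialLinearGroup (Fin 2) F, y ≠ 1 ∧ y ^ 13 = 1 ∧ w * y = y ^ 3 * w := by
  have hch : CharP F 13 := charP_of_pow (l := 13) (a := 1) (by norm_num) (by rw [hF, pow_one])
  have h13 : (13 : F) = 0 := by
    have := CharP.cast_eq_zero F 13
    exact_mod_cast this
  let Y : Matrix.SpecialLinearGroup (Fin 2) F := ⟨!![1, 1; 0, 1], by simp [Matrix.det_fin_two_of]⟩
  let Wm : Matrix.SpecialLinearGroup (Fin 2) F := ⟨!![4, 0; 0, 10], by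
    rw [Matrix.det_fin_two_of]; linear_combination 3 * h13⟩
  have hY : ∀ k : ℕ, (Y ^ k : Matrix.SpecialLinearGroup (Fin 2) F) = ⟨!![1, (k : F); 0, 1], by
      simp [Matrix.det_fin_two_of]⟩ := by
    intro k
    induction k with
    | zero =>
      apply Subtype.ext
      ext i j
      (revert i j; simp only [_root_.Fin.forall_fin_succ, _root_.pow_zero, _root_.Matrix.SpecialLinearGroup.coe_one, _root_.Nat.cast_zero, _root_.Matrix.of_apply, _root_.Matrix.cons_val', _root_.Matrix.cons_val_fin_one, Fin.isValue, _root_.Matrix.cons_val_zero, _root_.Matrix.cons_val_succ, _root_.IsEmpty.forall_iff, _root_.and_true, _root_.Matrix.one_apply_eq, Nat.reduceAdd, _root_.Fin.succ_zero_eq_one, _root_.ne_eq, _root_.zero_ne_one, _root_.not_false_eq_true, _root_.Matrix.one_apply_ne, _root_.and_self, _root_.Fin.succ_ne_zero, _root_.true_and])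
    | succ k ih =>
      rw [pow_succ, ih]
      apply Subtype.ext
      show !![1, (k : F); 0, 1] * !![1, 1; 0, 1] = !![1, ((k + 1 : ℕ) : F); 0, 1]
      rw [Matrix.mul_fin_two]
      push_cast
      ext i j
      (revert i j; simp [add_comm, _root_.Fin.forall_fin_succ])
  refine ⟨QuotientGroup.mk' _ Y, QuotientGroup.mk' _ Wm, ?_, ?_, ?_⟩
  · intro h
    have h1 := (QuotientGroup.eq_one_iff _).1 h
    have h2 := congrArg (fun M : Matrix.SpecialLinearGroup (Fin 2) F => (M : Matrix (Fin 2) (Fin 2) F) 0 0)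
      (Subgroup.mem_center_iff.1 h1 ⟨!![1, 0; 1, 1], by simp [Matrix.det_fin_two_of]⟩)
    have h3 : (!![1, 0; 1, 1] * !![1, 1; 0, 1] : Matrix (Fin 2) (Fin 2) F) 0 0 =
      (!![1, 1; 0, 1] * !![1, 0; 1, 1] : Matrix (Fin 2) (Fin 2) F) 0 0 := h2
    rw [Matrix.mul_fin_two, Matrix.mul_fin_two] at h3
    simp at h3
  · rw [← map_pow, hY]
    have h1 : (⟨!![1, ((13 : ℕ) : F); 0, 1], by simp [Matrix.det_fin_two_of]⟩ : Matrix.SpecialLinearGroup (Fin 2) F) =
        (1 : Matrix.SpecialLinearGroup (Fin 2) F) := by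
      apply Subtype.ext
      ext i j
      (revert i j; simp only [h13, _root_.Fin.forall_fin_succ, _root_.Nat.cast_ofNat, _root_.Matrix.of_apply, _root_.Matrix.cons_val', _root_.Matrix.cons_val_fin_one, _root_.Matrix.SpecialLinearGroup.coe_one, Fin.isValue, _root_.Matrix.cons_val_zero, _root_.Matrix.cons_val_succ, _root_.IsEmpty.forall_iff, _root_.and_true, _root_.Matrix.one_apply_eq, Nat.reduceAdd, _root_.Fin.succ_zero_eq_one, _root_.ne_eq, _root_.zero_ne_one, _root_.not_false_eq_true, _root_.Matrix.one_apply_ne, _root_.and_self, _root_.Fin.succ_ne_zero, _root_.true_and])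
    rw [h1, map_one]
  · rw [← map_pow, ← map_mul, ← map_mul, hY]
    congr 1
    apply Subtype.ext
    show !![4, 0; 0, 10] * !![1, 1; 0, 1] = !![1, ((3 : ℕ) : F); 0, 1] * !![4, 0; 0, 10]
    rw [Matrix.mul_fin_two, Matrix.mul_fin_two]
    ext i j
    (revert i j; simp only [_root_.Fin.forall_fin_succ, _root_.mul_one, _root_.MulZeroClass.mul_zero, _root_.add_zero, _root_.zero_add, _root_.Matrix.of_apply, _root_.Matrix.cons_val', _root_.Matrix.cons_val_fin_one, _root_.one_mul, _root_.Nat.cast_ofNat, _root_.MulZeroClass.zero_mul, Fin.isValue, _root_.Matrix.cons_val_zero, _root_.Matrix.cons_val_succ, _root_.forall_const, _root_.implies_true, _root_.and_true, _root_.true_and]) <;> (repeat' with_reducible apply And.intro)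
    linear_combination (-2 : F) * h13

/-- the normalisers of the subgroups of order `r`, `r ∣ q⁴ - q² + 1` -/
theorem norm12 {T : Type*} [Group T] [Finite T] {p f : ℕ} (D : DatD4 T p f) {r : ℕ} (hr : r.Prime)
    (hrN : r ∣ N12 (p ^ f)) {x : T} (hx : orderOf x = r) :
    Nat.card ↥(Subgroup.normalizer (Subgroup.zpowers x : Set T)) = N12 (p ^ f) * 4 := by
  obtain ⟨h1, h2⟩ := D.t12 x (by rw [hx]; exact hr) (by rw [hx]; exact hr.ne_zero) (by rw [hx]; exact hrN)
  have h13 := thirteen_le hr hrN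
  have hq1 : 1 ≤ p ^ f := Nat.one_le_pow _ _ D.hp.pos
  have hm := d4_mod hq1 hr hrN
  refine card_normalizer (K := (p ^ f) ^ 12 * (N3 (p ^ f) * N6 (p ^ f)) * ((p ^ f) ^ 6 - 1) * ((p ^ f) ^ 2 - 1))
    hr hx h1 h2 (by rw [D.card, d4_card]) ?_ hm (by norm_num) (by omega)
  intro h
  have h3 : 4 ≡ 0 [MOD r] := hm.symm.trans ((Nat.modEq_zero_iff_dvd).2 h)
  have := Nat.le_of_dvd (by norm_num) ((Nat.modEq_zero_iff_dvd).1 h3)
  omega

theorem odd_N12 {q : ℕ} : ¬ 2 ∣ N12 q := by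
  intro h
  have := thirteen_le Nat.prime_two h
  omega

/-- **`³D₄(q)`.** -/
theorem full_TD4 (has : ASThm.{0}) (hrf : RichFix.{0})
    (hnm : ∀ (S : Type) [Group S] [Finite S] [IsSimpleGroup S], ¬ IsMulCommutative S → ∃ g, IsNamed g S)
    {p f : ℕ} (hp : p.Prime) (hf : 1 ≤ f) {T : Type} [Group T] [Finite T] (hT : IsNamed (.td4 (p ^ f)) T)
    {R : Subgroup T} (hfull : _root_.Cfsg.Agent.H264.FKS.Full T R) : R = ⊤ := by
  obtain ⟨K, _, _, hK, ⟨e⟩⟩ := hT.real
  have hpF := Fact.mk hp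
  have hch : CharP K p := charP_of_pow (a := f * 3) hp (by rw [hK, pow_mul])
  have h2q : 2 ≤ p ^ f := hp.two_le.trans (Nat.le_self_pow (by omega) p)
  have D : DatD4 T p f := datD4_congr e.symm (datD4 hp hf hK)
  have hcard : Nat.card T = OT .TD4 p f := by
    rw [D.card]
    show _ = (p ^ f) ^ 12 * (((p ^ f) ^ 2 - 1) * ((p ^ f) ^ 6 - 1) * ((p ^ f) ^ 8 + (p ^ f) ^ 4 + 1))
    ring
  have hidx : Fintype.card chevD4.Idx = 28 := by
    show Fintype.card (Fin 4 ⊕ Fin 24) = 28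
    rw [Fintype.card_sum, Fintype.card_fin, Fintype.card_fin]
  have hFth : Fth 28 K T := ((hidx ▸ Fth.of (ι := chevD4.Idx) (F := K) (ρ := (twistedD4 K (p ^ f)).subtype)
      (Subgroup.subtype_injective _)) : Fth 28 K ↥(twistedD4 K (p ^ f))).congr e.symm
  obtain ⟨τ, hτ⟩ := id hFth
  have hrad : ∀ S : Subgroup R, S.Normal → Group.IsSolvable S → S = ⊥ := fun S hS hSs =>
    D.rad hfull (Fintype.card_fin 28) hτ S hS hSs
  have tc12 : ∀ r, Prim (p ^ f) 12 r → Tc T r (N12 (p ^ f)) := fun r hr =>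
    tc_of_torD (b := 0) D.t12.torD hr.prime hr.prime.ne_zero (prim_N12 (by omega) hr) D.dvd12
  obtain ⟨r, pr⟩ := exists_prim (q := p ^ f) (e := 12) h2q (by norm_num) (by omega)
  obtain ⟨S, hSn, hSs, hSna, hSc, hdS⟩ := socle hrf has hrad (tc12 r pr) odd_N12
    (hfull r pr.prime (tc12 r pr).dvd)
  obtain ⟨g, hg⟩ := hnm S hSna
  have hdA : ∀ r, Ab T r → r ∣ Nat.card S := fun r h => hdS r h (hfull r h.prime h.dvd)
  have halt : ∀ m, g ≠ .alt m := by
    rintro m rfl
    obtain ⟨e'⟩ := hg.real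
    have h9 : 5 ≤ m := hg.cond
    have h13 := thirteen_le pr.prime (prim_N12 (by omega) pr)
    have hrm : r ≤ m := le_of_dvd_alt pr.prime (by omega) e' (hdA r (tc12 r pr).toAb)
    have h := alt_bound (n := 4) (f := R.subtype.comp S.subtype)
      (R.subtype_injective.comp S.subtype_injective) pr.prime (by omega) hrm e' (fun x hx => by
        rw [norm12 D pr.prime (prim_N12 (by omega) pr) hx,
          (D.t12 x (by rw [hx]; exact pr.prime) (by rw [hx]; exact pr.prime.ne_zero)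
            (by rw [hx]; exact prim_N12 (by omega) pr)).2])
    have := Nat.le_of_dvd (by norm_num) h
    omega
  have hd : Nat.card S ∣ OT .TD4 p f :=
    ((Subgroup.card_subgroup_dvd_card S).trans (Subgroup.card_subgroup_dvd_card R)).trans hcard.dvd
  rcases type (Y := .TD4) (by decide) (n := 28) (by norm_num) survS_TD4 hp hf (by trivial)
    (hFth.sub R.subtype R.subtype_injective) hSs hSna hSc hg halt
    (fun r hr hd => Or.inr (hfull r hr (hcard ▸ hd)))
    (fun e' he r hr => by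
      have hr' := Prim.powBase hf hr
      have he : e' = 12 := by simpa [ER] using he
      subst he
      exact hdA r (tc12 r hr').toAb) hd with h | ⟨X, l, a, hlp, h1, h2, -, h4⟩
  · exact H325.Same.row_td4 hT hp hf hfull S hSna hSc hg h
  · exfalso
    rw [surv_TD4] at h4
    simp only [List.mem_cons, List.not_mem_nil, or_false, Prod.mk.injEq] at h4
    have hgr := hg.real
    have h20 : p = 2 ∧ f = 1 := by
      rcases h4 with h4 | h4 <;> exact h4.2
    obtain ⟨rfl, rfl⟩ := h20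
    have h8 : Fintype.card K = 8 := hK
    rcases h4 with ⟨⟨rfl, rfl, rfl⟩, -⟩ | ⟨⟨rfl, rfl, rfl⟩, -⟩
    · -- `PSL₂(27)`: a representation of degree 8
      obtain ⟨ρ, hρ, -⟩ := Cfsg.Agent.CpAutTwD.Emb.exists_rho (F := K) (by
        have := CharP.cast_eq_zero K 2
        exact_mod_cast this) (q := 2 ^ 1)
      have h5 : Fth 8 K ↥(twistedD4 K (2 ^ 1)) := by
        have h6 := Fth.of hρ
        simpa using h6
      have h6 : Fth 8 K S := ((h5.congr e.symm).sub R.subtype R.subtype_injective).sub S.subtype S.subtype_injective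
      have h7 := lb_le (fun hcc => hSna ⟨⟨hcc⟩⟩) (by norm_num) h6 h1 hgr h2 (by
        intro h0
        have h9 : (2 : ℕ) ∣ 3 := (CharP.cast_eq_zero_iff K 2 3).1 (by exact_mod_cast h0)
        omega)
      exact absurd h7 (by decide)
    · -- `PSL₂(13)`
      cases h1
      obtain ⟨F, _, _, hF, ⟨e'⟩⟩ := hgr
      obtain ⟨y, w, h5, h6, h7⟩ := exists_third (F := F) (by simpa using hF)
      let φ : Matrix.ProjectiveSpecialLinearGroup (Fin 2) F →* ↥(twistedD4 K (2 ^ 1)) :=
        e.toMonoidHom.comp ((R.subtype.comp S.subtype).comp e'.symm.toMonoidHom)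
      have hφ : Function.Injective φ :=
        e.injective.comp ((R.subtype_injective.comp S.subtype_injective).comp e'.symm.injective)
      have h8 := Cfsg.Agent.CpAutTwD.Emb.thirteen h8 (q := 2 ^ 1) (y := φ y) (w := φ w)
        (by rw [← map_pow, h6, map_one]) (by rw [← map_mul, h7, map_mul, map_pow])
      exact h5 (hφ (by rw [h8, map_one]))

end Cfsg.Agent.H983.ElG
end
end

-- part: H946/RowF4_mg
section
prune_inst 0x14300100700000000000001000002020000004000000000010000100090e120000000800400008021060108010000000001000000000000000003000000600000020100000340d08200000001002000000000000000000000000000000041000000000000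
set_option linter.all false
open scoped Cfsg.Agent.FastGrp

-- part: H946/F4A
section
/-!
# Full subgroups of `F₄(q)`: the argument (helper946)
-/

set_option autoImplicit false

namespace Cfsg.Agent.H946.Soc

open Cfsg Cfsg.Agent.OrdDiv Cfsg.Agent.H436 Cfsg.Agent.H915.GN Cfsg.Agent.H264.FKS Cfsg.Agent.H946.Exc
open Cfsg.Agent.H290.ElReg Cfsg.Agent.H290.ElTab Cfsg.Agent.H290.ElCross Cfsg.Agent.H290.ElEng Cfsg.Agent.H290.ElRich
open Cfsg.Agent.H902 Cfsg.Agent.H946.Rad Cfsg.Agent.H946.Num Cfsg.Agent.H325.Loc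

/-- the result of the comparison with the simple groups in cross characteristic -/
def SameChar (Y : Art.Sh) (n p f : ℕ) : Prop :=
  ∀ {F : Type} [Field F] [CharP F p] {R : Type} [Group R] [Finite R] (_ : Fth n F R)
    {S : Subgroup R} [S.Normal] (_ : IsSimpleGroup S) (_ : ¬ IsMulCommutative S)
    (_ : Subgroup.centralizer (S : Set R) = ⊥) {g : Grp} (_ : IsNamed g S) (_ : ∀ m, g ≠ .alt m)
    (_ : ∀ r, r.Prime → r ∣ OT Y p f → r ∣ 6 ∨ r ∣ Nat.card R)
    (_ : ∀ e ∈ ER Y, ∀ r, Prim p (e * f) r → r ∣ Nat.card S) (_ : Nat.card S ∣ OT Y p f), HasChar p g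

/-- elements of order `2r` give involutions in the centraliser of an element of order `r` -/
theorem ne_two_mul {T : Type*} [Group T] [Finite T] {M : Subgroup T} {r : ℕ} (hr : r.Prime)
    (h : ∀ x : T, orderOf x = r → ¬ 2 ∣ Nat.card ↥(Subgroup.centralizer ({x} : Set T))) (g : ↥M) :
    orderOf g ≠ 2 * r := by
  intro hg
  have h0 : orderOf (g : T) = 2 * r := by rw [Subgroup.orderOf_coe, hg]
  have h1 : orderOf ((g : T) ^ 2) = r := by
    rw [orderOf_pow, h0, Nat.gcd_eq_right (Dvd.intro _ rfl)]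
    exact Nat.mul_div_cancel_left r (by norm_num)
  have h2 : orderOf ((g : T) ^ r) = 2 := by
    rw [orderOf_pow, h0, Nat.gcd_eq_right (Dvd.intro_left _ rfl)]
    exact Nat.mul_div_cancel 2 hr.pos
  have h3 := orderOf_dvd_cent (((Commute.refl (g : T)).pow_pow 2 r))
  rw [h2] at h3
  exact h _ h1 h3

/-- elements with cyclic centralisers -/
theorem nilp_of_cyclic {T : Type*} [Group T] {H : Type*} [Group H] (f : H →* T) (hf : Function.Injective f) (x : H)
    (h : IsCyclic ↥(Subgroup.centralizer ({f x} : Set T))) :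
    Group.IsNilpotent (Subgroup.centralizer ({x} : Set H)) := by
  have hc : ∀ a b : Subgroup.centralizer ({x} : Set H), a * b = b * a := by
    intro a b
    let _ : CommGroup ↥(Subgroup.centralizer ({f x} : Set T)) := IsCyclic.commGroup
    have hmem : ∀ z : Subgroup.centralizer ({x} : Set H), f z ∈ Subgroup.centralizer ({f x} : Set T) := by
      intro z
      rw [Subgroup.mem_centralizer_singleton_iff, ← map_mul, ← map_mul,
        Subgroup.mem_centralizer_singleton_iff.1 z.2]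
    have h1 := mul_comm (⟨f a, hmem a⟩ : ↥(Subgroup.centralizer ({f x} : Set T))) ⟨f b, hmem b⟩
    have h2 : f (a * b : H) = f (b * a : H) := by
      rw [map_mul, map_mul]
      exact congrArg Subtype.val h1
    exact Subtype.ext (hf h2)
  let _ : CommGroup (Subgroup.centralizer ({x} : Set H)) := { mul_comm := hc }
  infer_instance

theorem prim_four {q e w : ℕ} (h : Prim q e w) {k : ℕ} (hk : e = 3 * k) (hcop : Nat.Coprime k 3 ∨ True)
    (hk4 : k ∣ 4) : Prim (q ^ 4) 3 w := by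
  refine ⟨h.prime, fun n => ?_, h.not_dvd_pow 4⟩
  rw [← pow_mul, h.dvd_iff, hk]
  obtain ⟨j, hj⟩ := hk4
  have hk0 : 0 < k := Nat.pos_of_ne_zero (by rintro rfl; omega)
  have hj3 : Nat.Coprime 3 j := by
    have : j ∣ 4 := ⟨k, by rw [hj, mul_comm]⟩
    exact Nat.Coprime.coprime_dvd_right this (by norm_num)
  rw [hj, mul_assoc, mul_comm 3 k, Nat.mul_dvd_mul_iff_left hk0]
  exact ⟨fun h => hj3.dvd_of_dvd_mul_left h, fun h => h.mul_left j⟩

/-- **Full subgroups of `F₄(q)`.** -/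
theorem f4_main (has : ASThm.{0}) (hrf : RichFix.{0})
    (hnm : ∀ (S : Type) [Group S] [Finite S] [IsSimpleGroup S], ¬ IsMulCommutative S → ∃ g, IsNamed g S)
    {p f : ℕ} (hsame : SameChar .F4 52 p f) {T : Type} [Group T] [Finite T] (D : DatF4 T p f)
    (hiso : ∃ w, w.Prime ∧ w ∣ Nat.card T ∧ PIso p w T) (hT : IsNamed (.f4 (p ^ f)) T)
    {F : Type} [Field F] [CharP F p] (hF : Fth 52 F T) {R : Subgroup T} (hfull : Rad.Full R) : R = ⊤ := by
  have hp := D.hp
  have hf : 1 ≤ f := D.ha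
  have h2q : 2 ≤ p ^ f := hp.two_le.trans (Nat.le_self_pow (by omega) p)
  have hcard : Nat.card T = OT .F4 p f := by
    have h := hT.eq
    change 1 * Nat.card T = OT .F4 p f at h
    rwa [one_mul] at h
  obtain ⟨τ, hτ⟩ := id hF
  have hrad := D.rad hiso hfull (by simp) hτ
  have hFR : Fth 52 F R := hF.sub R.subtype R.subtype_injective
  obtain ⟨r8, hr8, hr82, hr8N⟩ := exists_N8 (q := p ^ f) h2q
  obtain ⟨r12, hr12, hr12N⟩ := exists_N12 (q := p ^ f) h2q
  have c12 : ∀ x : T, (orderOf x).Prime → orderOf x ∣ N12 (p ^ f) →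
      IsCyclic ↥(Subgroup.centralizer ({x} : Set T)) ∧ Nat.card ↥(Subgroup.centralizer ({x} : Set T)) = N12 (p ^ f) :=
    fun x hx hN => D.t12 x hx hx.ne_zero hN
  have h2T : 2 ∣ Nat.card T := by
    rw [D.card]
    rcases hp.eq_two_or_odd with h | h
    · exact ((((((by rw [h] : 2 ∣ p).trans (dvd_pow_self p (by omega))).trans
        (dvd_pow_self _ (by norm_num))).mul_right _).mul_right _).mul_right _).mul_right _
    · have hq : (p ^ f) % 2 = 1 := Nat.pow_mod p f 2 ▸ by rw [h]; simp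
      have h5 : 2 ∣ (p ^ f) ^ 2 - 1 := by
        have : (p ^ f) ^ 2 % 2 = 1 := Nat.pow_mod (p ^ f) 2 2 ▸ by rw [hq]
        omega
      exact (((h5.mul_left _).mul_right _).mul_right _).mul_right _
  have hoddN : ¬ 2 ∣ N12 (p ^ f) := fun h => by
    have := thirteen_le Nat.prime_two h
    omega
  obtain ⟨S, hSn, hSs, hSna, hSc⟩ := exists_socle has hrad (hfull 2 Nat.prime_two h2T) hr12
    (by have := thirteen_le hr12 hr12N; omega) (hfull r12 hr12 (hr12N.trans D.dvd12))
    (ne_two_mul hr12 fun x hx h => hoddN ((c12 x (by rw [hx]; exact hr12) (by rw [hx]; exact hr12N)).2 ▸ h))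
  have hd12 : ∀ r, r.Prime → r ∣ N12 (p ^ f) → r ∣ Nat.card S := fun r hr hN =>
    dvd_socle_rich hrf hSn hSs hSna hr (hfull r hr (hN.trans D.dvd12)) fun x hx =>
      nilp_of_cyclic R.subtype R.subtype_injective x (c12 (x : T) (by rw [Subgroup.orderOf_coe, hx]; exact hr)
        (by rw [Subgroup.orderOf_coe, hx]; exact hN)).1
  have hd8 : ∀ r, r.Prime → r ≠ 2 → r ∣ N8 (p ^ f) → r ∣ Nat.card S := fun r hr h2 hN =>
    dvd_socle_rich hrf hSn hSs hSna hr (hfull r hr (hN.trans D.dvd8)) fun x hx =>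
      nilp_of_cyclic R.subtype R.subtype_injective x (D.t8 (x : T) (by rw [Subgroup.orderOf_coe, hx]; exact hr)
        (by rw [Subgroup.orderOf_coe, hx]; exact h2) (by rw [Subgroup.orderOf_coe, hx]; exact hN)).1
  obtain ⟨g, hg⟩ := hnm S hSna
  have hcS : Nat.card S ∣ Nat.card T := (Subgroup.card_subgroup_dvd_card S).trans (Subgroup.card_subgroup_dvd_card R)
  -- not alternating
  have halt : ∀ m, g ≠ .alt m := by
    rintro m rfl
    obtain ⟨e⟩ := hg.real
    have h9 : 5 ≤ m := hg.cond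
    have h17 := seventeen_le hr8 hr82 hr8N
    have h13 := thirteen_le hr12 hr12N
    have hm8 := mod_of_order hr8 (by norm_num) (od_N8 hr8 hr8N hr82)
    have hm12 := mod_of_order hr12 (by norm_num) (od_N12 hr12 hr12N)
    have hne : r8 ≠ r12 := by rintro rfl; exact cop812 hr8 hr82 hr8N hr12N
    have hcomp : ∀ x : S, R.subtype.comp S.subtype x = ((x : R) : T) := fun x => rfl
    have hinj : Function.Injective (R.subtype.comp S.subtype) :=
      R.subtype_injective.comp S.subtype_injective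
    have n12 : ∀ x : S, orderOf x = r12 → Group.IsNilpotent (Subgroup.centralizer ({x} : Set S)) := fun x hx =>
      nilp_of_cyclic (R.subtype.comp S.subtype) hinj x (c12 _ (by rw [orderOf_injective _ hinj, hx]; exact hr12)
        (by rw [orderOf_injective _ hinj, hx]; exact hr12N)).1
    have n8 : ∀ x : S, orderOf x = r8 → Group.IsNilpotent (Subgroup.centralizer ({x} : Set S)) := fun x hx =>
      nilp_of_cyclic (R.subtype.comp S.subtype) hinj x (D.t8 _ (by rw [orderOf_injective _ hinj, hx]; exact hr8)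
        (by rw [orderOf_injective _ hinj, hx]; exact hr82) (by rw [orderOf_injective _ hinj, hx]; exact hr8N)).1
    rcases Nat.lt_or_gt_of_ne hne with h | h
    · exact not_alt hr8 hr12 (by omega) (by omega) (by omega) e (hd8 r8 hr8 hr82 hr8N) (hd12 r12 hr12 hr12N) n8
    · exact not_alt hr12 hr8 (by omega) (by omega) (by omega) e (hd12 r12 hr12 hr12N) (hd8 r8 hr8 hr82 hr8N) n12
  have hch : HasChar p g := by
    refine hsame hFR hSs hSna hSc hg halt (fun r hr hrd => Or.inr (hfull r hr (hcard ▸ hrd))) ?_ (hcard ▸ hcS)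
    intro e he r hr
    have he' : e = 12 ∨ e = 8 := by simpa [ER] using he
    have hr' := prim_pow (p := p) (a := f) (e := e) (by omega) hr
    rcases he' with rfl | rfl
    · exact hd12 r hr.prime (prim_N12 (by omega) hr')
    · exact hd8 r hr.prime (by have := prim_lt hp.one_le (by omega) hr; omega) (prim_N8 (by omega) hr')
  have hDT : Dt p f (Nat.card T) (.f4 (p ^ f)) :=
    ⟨hp, by omega, Nat.card_pos.ne', hT.cond, rfl, hT.eq⟩
  obtain ⟨b, hH⟩ := hy_of hDT hfull S hSna hSc hg hch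
  rcases same_F4 hH with h | h
  · -- `S = T`
    have h1 : Nat.card S = Nat.card T := by
      have h2 := hg.eq
      rw [h] at h2
      exact Nat.eq_of_mul_eq_mul_left (by norm_num : 0 < 1) (h2.trans hT.eq.symm)
    apply Subgroup.eq_top_of_card_eq
    apply Nat.dvd_antisymm (Subgroup.card_subgroup_dvd_card R)
    rw [← h1]
    exact Subgroup.card_subgroup_dvd_card S
  · exfalso
    rw [h] at hg
    obtain ⟨v, hv⟩ := exists_prim (q := p ^ f) (e := 3) h2q le_rfl (by omega)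
    have hv3 := prim_lt (by omega) (by norm_num) hv
    obtain ⟨u, hu⟩ := exists_prim (q := p ^ f) (e := 12) h2q (by norm_num) (by omega)
    have huN := prim_N12 (by omega) hu
    have hvN := prim_N3 (by omega) hv
    have huv : u ≠ v := by
      rintro rfl
      have := hu.unique hv
      omega
    obtain ⟨x, hx⟩ := psl_adj hg (k := 3) (l := 3) le_rfl dvd_rfl le_rfl
      (prim_four hu (k := 4) (by norm_num) (Or.inr trivial) (by norm_num))
      (prim_four hv (k := 1) (by norm_num) (Or.inr trivial) (by norm_num)) huv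
      (h2q.trans (Nat.le_self_pow (by norm_num) _))
    have hx0 : orderOf ((x : R) : T) = u * v := by rw [Subgroup.orderOf_coe, Subgroup.orderOf_coe, hx]
    have h1 : orderOf (((x : R) : T) ^ v) = u := by
      rw [orderOf_pow, hx0, Nat.gcd_eq_right (Dvd.intro_left _ rfl)]
      exact Nat.mul_div_cancel u hv.prime.pos
    have h2 : orderOf (((x : R) : T) ^ u) = v := by
      rw [orderOf_pow, hx0, Nat.gcd_eq_right (Dvd.intro _ rfl)]
      exact Nat.mul_div_cancel_left v hu.prime.pos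
    have h3 := orderOf_dvd_cent (((Commute.refl ((x : R) : T)).pow_pow v u))
    rw [h2, (c12 _ (by rw [h1]; exact hu.prime) (by rw [h1]; exact huN)).2] at h3
    have h4 := od_N12 hv.prime h3
    have h5 := od_N3 hv.prime hvN (by omega)
    omega

end Cfsg.Agent.H946.Soc
end

-- part: H946/RowF4
section
/-!
# `F₄(q)`: every proper subgroup misses a prime divisor of the order (helper946)
-/

set_option autoImplicit false

namespace Cfsg.Agent.H946.Soc

open Cfsg Cfsg.Lie Cfsg.Agent.OrdDiv Cfsg.Agent.H436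
open Cfsg.Agent.H290.ElReg Cfsg.Agent.H290.ElTab Cfsg.Agent.H290.ElCross Cfsg.Agent.H290.ElEng Cfsg.Agent.H290.ElRich
open Cfsg.Agent.H946.Rad Cfsg.Agent.H946.Inst

theorem card_idx_F4 : Fintype.card chevF4.Idx = 52 := by
  show Fintype.card (Fin 4 ⊕ Fin 48) = 52
  rw [Fintype.card_sum, Fintype.card_fin, Fintype.card_fin]

theorem sameChar_F4 {p f : ℕ} (hp : p.Prime) (hf : 1 ≤ f) : SameChar .F4 52 p f :=
  fun hF _ _ hSs hna hSc _ hg halt hall hreg hd =>
    H290.ElMain.same_char (Y := .F4) (by decide) (by norm_num) surv_F4 survS_F4 hp hf (by trivial) hF hSs hna hSc hg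
      halt hall hreg hd

/-- **`F₄(q)`: full subgroups.** -/
theorem full_F4 (has : ASThm.{0}) (hrf : RichFix.{0})
    (hnm : ∀ (S : Type) [Group S] [Finite S] [IsSimpleGroup S], ¬ IsMulCommutative S → ∃ g, IsNamed g S)
    {q : ℕ} {T : Type} [Group T] [Finite T] (hT : IsNamed (.f4 q) T)
    {R : Subgroup T} (hfull : H264.FKS.Full T R) : R = ⊤ := by
  obtain ⟨F, _, _, hF, ⟨e⟩⟩ := hT.real
  obtain ⟨p, f, hp, hf, hq⟩ := (isPrimePow_nat_iff _).1 hT.cond
  subst hq
  have hpF := Fact.mk hp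
  have hch : CharP F p := charP_of_pow hp hF
  have hT' : IsNamed (.f4 (p ^ f)) ↥(chevF4.group F) :=
    .mk' ⟨F, inferInstance, inferInstance, hF, ⟨MulEquiv.refl _⟩⟩ hT.cond
      (by rw [← Nat.card_congr e.toEquiv]; exact hT.eq)
  have key : R.map e.toMonoidHom = ⊤ := by
    refine f4_main has hrf hnm (sameChar_F4 hp hf) (datF4 hp hf hF) (isoF4 hp hf hF) hT' (F := F)
      (card_idx_F4 ▸ Fth.of (ι := chevF4.Idx) (F := F) (ρ := (chevF4.group F).subtype)
        (Subgroup.subtype_injective _)) ?_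
    intro r hr hd
    rw [← Nat.card_congr e.toEquiv] at hd
    rw [Subgroup.card_map_of_injective e.injective]
    exact hfull r hr hd
  have h1 : (R.map e.toMonoidHom).comap e.toMonoidHom = R := Subgroup.comap_map_eq_self_of_injective e.injective R
  rw [← h1, key, Subgroup.comap_top]

/-- the row of `F₄(q)` -/
theorem clT_F4 (has : ASThm.{0}) (hrf : RichFix.{0})
    (hnm : ∀ (S : Type) [Group S] [Finite S] [IsSimpleGroup S], ¬ IsMulCommutative S → ∃ g, IsNamed g S)
    {q : ℕ} {T : Type} [Group T] [Finite T] (hT : IsNamed (.f4 q) T) : H278.El.ClT T := by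
  intro R hR
  left
  by_contra h
  exact hR (full_F4 has hrf hnm hT fun r hr hd => H278.El.dvd_of_not_derT h hr hd)

end Cfsg.Agent.H946.Soc
end

-- part: H371/El/TwF
section
/-!
# TEAM ELUSIVE, exceptional rows: `²F₄(q)` (helper371)

`full_TF4` : `T ≅ ²F₄(q)`, `R ≤ T`, `π(R) = π(T)`: `R = T`.
-/

set_option autoImplicit false

namespace Cfsg.Agent.H371.El

open Cfsg Cfsg.Lie Cfsg.Agent.OrdDiv Cfsg.Agent.H902 Cfsg.Agent.H902.Names Cfsg.Agent.H290.ElReg
  Cfsg.Agent.H290.ElTab Cfsg.Agent.H290.ElCross Cfsg.Agent.H290.ElEng Cfsg.Agent.H290.ElRich Cfsg.Agent.H290.ElMain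
open Cfsg.Agent.H436 (Prim IsNamed Cond exists_prim)
open Cfsg.Agent.H915.GN (HasChar)
open Cfsg.Agent.H264.FKS (Full exists_lie)
open Cfsg.Agent.H946.Num Cfsg.Agent.H946.Rad

/-- the two factors of `q⁴ - q² + 1` have different primes -/
theorem two_primes {m : ℕ} (hm : 1 ≤ m) :
    ∃ r s, r.Prime ∧ s.Prime ∧ r ∣ N12 (2 ^ (2 * m + 1)) ∧ s ∣ N12 (2 ^ (2 * m + 1)) ∧ r + 4 ≤ s := by
  obtain ⟨q, hq⟩ : ∃ q, q = 2 ^ (2 * m + 1) := ⟨_, rfl⟩
  obtain ⟨t, ht⟩ : ∃ t, t = 2 ^ (m + 1) := ⟨_, rfl⟩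
  have h1 : t * t = 2 * q := by
    rw [ht, hq, ← pow_add, ← pow_succ']
    congr 1
    ring
  have h2 : 4 ≤ t := by
    rw [ht]
    exact (by norm_num : 4 = 2 ^ 2) ▸ Nat.pow_le_pow_right (by norm_num) (by omega)
  have h3 : 2 * t ≤ q := by nlinarith only [h1, h2]
  obtain ⟨u, hu⟩ : ∃ u, q = u + t := ⟨q - t, by omega⟩
  have h2q : 2 ∣ q := hq ▸ dvd_pow_self 2 (by omega)
  have h2t : 2 ∣ t := ht ▸ dvd_pow_self 2 (by omega)
  have h2u : 2 ∣ u := (Nat.dvd_add_left h2t).1 (hu ▸ h2q)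
  have hmul : ((q + 1) * (q + t) + 1) * ((q + 1) * u + 1) = N12 q := by
    zify
    rw [cast_N12]
    have h4 : (u : ℤ) = q - t := by rw [hu]; push_cast; ring
    have h5 : (t : ℤ) * t = 2 * q := by exact_mod_cast h1
    rw [h4]
    linear_combination (-((q : ℤ) + 1) ^ 2) * h5
  rw [← hq]
  obtain ⟨r, hr, hr1⟩ := Nat.exists_prime_and_dvd (n := (q + 1) * (q + t) + 1) (by nlinarith only [h2])
  obtain ⟨s, hs, hs1⟩ := Nat.exists_prime_and_dvd (n := (q + 1) * u + 1) (by
    have : 0 < u := by (clear * - h2 h3 hu; omega)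
    nlinarith only [h2, h3, hu])
  have hrN : r ∣ N12 q := hmul ▸ hr1.mul_right _
  have hsN : s ∣ N12 q := hmul ▸ hs1.mul_left _
  have hne : r ≠ s := by
    rintro rfl
    have h4 : (q + 1) * (q + t) + 1 = ((q + 1) * u + 1) + (q + 1) * (2 * t) := by rw [hu]; ring
    rw [h4] at hr1
    have h5 : r ∣ (q + 1) * (2 * t) := (Nat.dvd_add_right hs1).1 hr1
    rcases hr.dvd_mul.1 h5 with h6 | h6
    · exact hr.one_lt.ne' (Nat.dvd_one.1 ((Nat.dvd_add_right (h6.mul_right u)).1 hs1))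
    · have h7 : r = 2 := by
        rw [ht, ← pow_succ'] at h6
        exact (Nat.prime_dvd_prime_iff_eq hr Nat.prime_two).1 (hr.dvd_of_dvd_pow h6)
      subst h7
      have h8 : 2 ∣ (q + 1) * u := h2u.mul_left _
      omega
  have hr13 := thirteen_le hr hrN
  have hs13 := thirteen_le hs hsN
  obtain ⟨a, ha⟩ := mod_of_order hr (by norm_num) (od_N12 hr hrN)
  obtain ⟨b, hb⟩ := mod_of_order hs (by norm_num) (od_N12 hs hsN)
  rcases Nat.lt_or_gt_of_ne hne with h | h
  · exact ⟨r, s, hr, hs, hrN, hsN, by omega⟩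
  · exact ⟨s, r, hs, hr, hsN, hrN, by omega⟩

theorem ab_of_cyc {T E : Type*} [Group T] [Group E] (f : T →* E) (hf : Function.Injective f) {r : ℕ}
    (hr : r.Prime) (hd : r ∣ Nat.card T)
    (h : ∀ x : E, orderOf x = r → IsCyclic ↥(Subgroup.centralizer ({x} : Set E))) : Ab T r := by
  refine ⟨hr, hd, fun x hx a b ha hb => ?_⟩
  have hc := h (f x) (by rw [orderOf_injective f hf, hx])
  have h1 := (IsCyclic.commGroup (α := Subgroup.centralizer ({f x} : Set E))).mul_comm
    ⟨f a, Subgroup.mem_centralizer_singleton_iff.2 (ha.map f)⟩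
    ⟨f b, Subgroup.mem_centralizer_singleton_iff.2 (hb.map f)⟩
  have h2 : f a * f b = f b * f a := congrArg Subtype.val h1
  apply hf
  rw [map_mul, map_mul, h2]

theorem reg_chk : ((reg 52).all fun x =>
    (510510 ^ 10) % (24 * Art.dd x.1 (x.2.1 ^ x.2.2) * x.2.2) == 0) = true := by decide +kernel

/-- the socle has characteristic 2 -/
theorem exists_char (has : ASThm.{0}) (hrf : RichFix.{0})
    (hnm : ∀ (S : Type) [Group S] [Finite S] [IsSimpleGroup S], ¬ IsMulCommutative S → ∃ g, IsNamed g S)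
    {m : ℕ} (hm : 1 ≤ m) {F : Type} [Field F] [CharP F 2] {T : Type} [Group T] [Finite T]
    (hF : Fth 52 F T) (hc : Nat.card T = OT .TF4 2 (2 * m + 1))
    (hab : ∀ r, r.Prime → r ∣ N12 (2 ^ (2 * m + 1)) → Ab T r)
    {r₀ : ℕ} (hr₀ : r₀.Prime) (hr2 : r₀ ≠ 2) (hrT : r₀ ∣ Nat.card T) (hodd : ∀ g : T, orderOf g ≠ 2 * r₀)
    {R : Subgroup T} (hfull : _root_.Cfsg.Agent.H264.FKS.Full T R) (hrad : ∀ N : Subgroup R, N.Normal → Group.IsSolvable N → N = ⊥) :
    ∃ S : Subgroup R, S.Normal ∧ IsSimpleGroup S ∧ ¬ IsMulCommutative S ∧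
      Subgroup.centralizer (S : Set R) = ⊥ ∧ ∃ g, IsNamed g S ∧ HasChar 2 g := by
  classical
  have h2T : 2 ∣ Nat.card T := by
    rw [hc]
    exact p_dvd_OT (by decide) (by omega)
  obtain ⟨S, hSn, hSs, hSna, hSc⟩ := exists_socle has hrad (hfull 2 Nat.prime_two h2T) hr₀ hr2
    (hfull r₀ hr₀ hrT) fun g hg => hodd (g : T) (by rw [Subgroup.orderOf_coe, hg])
  have hdS : ∀ r, Ab T r → r ∣ Nat.card S := fun r h => dvd_socle_rich hrf hSn hSs hSna h.prime
    (hfull r h.prime h.dvd) (fun x hx => h.nilp R.subtype R.subtype_injective x hx)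
  obtain ⟨g, hg⟩ := hnm S hSna
  refine ⟨S, hSn, hSs, hSna, hSc, g, hg, ?_⟩
  have hFS : Fth 52 F S := hF.sub ((R.subtype).comp S.subtype) (R.subtype_injective.comp S.subtype_injective)
  have hall : ∀ r, r.Prime → r ∣ OT .TF4 2 (2 * m + 1) → r ∣ Nat.card R := fun r hr h =>
    hfull r hr (hc ▸ h)
  have hd : Nat.card S ∣ OT .TF4 2 (2 * m + 1) :=
    hc ▸ (Subgroup.card_subgroup_dvd_card S).trans (Subgroup.card_subgroup_dvd_card R)
  have h12 : ∀ r, Prim 2 (12 * (2 * m + 1)) r → r ∣ Nat.card S := fun r hr =>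
    hdS r (hab r hr.prime (prim_N12 (Nat.one_le_pow _ _ (by norm_num)) (prim_pow (by omega) hr)))
  rcases char_of_cond hg.cond with ⟨k, -, rfl⟩ | h | ⟨l, hl, h⟩
  · exfalso
    obtain ⟨r, s, hr, hs, hrN, hsN, hrs⟩ := two_primes hm
    obtain ⟨e⟩ := hg.real
    have h9 : 5 ≤ k := hg.cond
    exact not_alt hr hs (by have := thirteen_le hr hrN; omega) hrs (by omega) e (hdS r (hab r hr hrN))
      (hdS s (hab s hs hsN)) (fun x hx =>
        (hab r hr hrN).nilp (R.subtype.comp S.subtype) (R.subtype_injective.comp S.subtype_injective) x hx)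
  · exfalso
    obtain ⟨x, hx, rfl⟩ := List.mem_map.1 h
    have hcS : Nat.card S = x.2 := hg.ord.trans (spor_ord x hx)
    have h1 : (x.2, (2, 2 * m + 1)) ∈ survS .TF4 := mem_survS (by decide) hx Nat.prime_two (by omega)
      ⟨rfl, ⟨m, rfl⟩, by omega⟩ (fun r hr hrd => by
        have h6 := hall r hr hrd
        rw [← hcS]
        refine H290.ElFin.prime_dvd_of_oddInn hSc (H290.ElFin.oddInn_of_spor hx hg.real) ?_ hr h6
        have hns : ¬ Group.IsSolvable S := fun hs => hSna ⟨⟨IsSimpleGroup.comm_iff_isSolvable.2 hs⟩⟩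
        by_contra h2
        exact hns (Cfsg.Agent.S0205.result (Nat.not_even_iff_odd.1 fun h3 => h2 (even_iff_two_dvd.1 h3))))
      (hcS ▸ hd)
    rw [survS_TF4] at h1
    exact absurd h1 (by simp)
  · by_cases hl2 : l = 2
    · exact hl2 ▸ h
    · exfalso
      obtain ⟨X, a, h1, h2, -⟩ := exists_lie hl hg h
      have hlb : lb X (l ^ a) ≤ 52 := by
        refine lb_le (fun hcc => hSna ⟨⟨hcc⟩⟩) (by norm_num) hFS h1 hg.real h2 (fun h0 => hl2 ?_)
        exact ((Nat.prime_dvd_prime_iff_eq Nat.prime_two hl).1 ((CharP.cast_eq_zero_iff F 2 l).1 h0)).symm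
      obtain ⟨g1, g2, g3, -⟩ := id h2
      have hreg : (X, (l, a)) ∈ reg 52 := mem_reg (by norm_num) g1 g2 g3 hlb
      have hchk := List.all_eq_true.1 reg_chk _ hreg
      simp only [beq_iff_eq] at hchk
      have hna' : ¬ ∀ x y : S, x * y = y * x := fun hc => hSna ⟨⟨hc⟩⟩
      obtain ⟨c, hc1, hc2, -⟩ := H364.OutLie.card_out hna' h1 hg.real h2
      have h6 : ∀ r, Prim 2 (6 * (2 * m + 1)) r → r ∣ Nat.card S := by
        intro r hr
        have h18 : 19 ≤ r := by
          have h3 := mod_of_prim hr (by norm_num)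
          have := hr.prime.two_le
          have := Nat.le_of_dvd (by omega) h3
          omega
        have hno : ¬ r ∣ 24 * Art.dd X (l ^ a) * a := by
          intro h3
          have h4 := hr.prime.dvd_of_dvd_pow (h3.trans (Nat.dvd_of_mod_eq_zero hchk))
          have h5 : r ∣ 2 * (3 * (5 * (7 * (11 * (13 * 17))))) := h4
          rcases hr.prime.dvd_mul.1 h5 with h5 | h5
          · have := Nat.le_of_dvd (by norm_num) h5; omega
          rcases hr.prime.dvd_mul.1 h5 with h5 | h5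
          · have := Nat.le_of_dvd (by norm_num) h5; omega
          rcases hr.prime.dvd_mul.1 h5 with h5 | h5
          · have := Nat.le_of_dvd (by norm_num) h5; omega
          rcases hr.prime.dvd_mul.1 h5 with h5 | h5
          · have := Nat.le_of_dvd (by norm_num) h5; omega
          rcases hr.prime.dvd_mul.1 h5 with h5 | h5
          · have := Nat.le_of_dvd (by norm_num) h5; omega
          rcases hr.prime.dvd_mul.1 h5 with h5 | h5
          · have := Nat.le_of_dvd (by norm_num) h5; omega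
          · have := Nat.le_of_dvd (by norm_num) h5; omega
        have h3 := (hall r hr.prime (dvd_OT (by decide) (e := 6) (by decide) (by omega) hr)).trans (card_dvd_aut hSc)
        rw [← H934.OutB.card_out_mul S hSna, hc1, hr.prime.dvd_mul, hr.prime.dvd_mul] at h3
        rcases h3 with (h4 | h4) | h4
        · exact absurd ((h4.trans hc2).mul_right _) hno
        · exact absurd (h4.mul_left _) hno
        · exact h4
      have h3 : ((X, (l, a)), (2, 2 * m + 1)) ∈ surv 52 .TF4 := by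
        refine mem_surv (by norm_num) (by decide) h2 hlb Nat.prime_two (by omega) (fun h => hl2 h.symm)
          ⟨rfl, ⟨m, rfl⟩, by omega⟩ (fun r hr hrd => H290.ElFin.prime_dvd_NA hSna h1 hg.real h2 hr
            ((hall r hr hrd).trans (card_dvd_aut hSc))) (fun e he r hr => ?_) hd
        obtain rfl : e = 12 := by simpa [ER] using he
        exact h12 r hr
      rw [surv_TF4] at h3
      exact absurd h3 (by simp)

theorem card_idx : Fintype.card chevF4.Idx = 52 := by
  show Fintype.card (Fin 4 ⊕ Fin 48) = 52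
  rw [Fintype.card_sum, Fintype.card_fin, Fintype.card_fin]

theorem le_group {K : Type*} [Field K] (e : ℕ) : twistedF4 K e ≤ chevF4.group K := by
  have hD : Cfsg.Agent.ChevalleyStructure.Elts.InList chevF4 := by simp [Cfsg.Agent.ChevalleyStructure.Elts.InList]
  unfold twistedF4 ChevalleyDatum.genSubgroup
  rw [Subgroup.closure_le]
  rintro g ⟨l, -, hg⟩
  rw [(Cfsg.Agent.ChevalleyStructure.Elts.eq_wordG_iff hD g l).2 hg]
  exact Cfsg.Agent.ChevalleyStructure.Elts.wordG_mem_group hD l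

theorem OT_eq (m : ℕ) : OT .TF4 2 (2 * m + 1) = (2 ^ (2 * m + 1)) ^ 12 * ((2 ^ (2 * m + 1) - 1) *
    ((2 ^ (2 * m + 1)) ^ 3 + 1) * ((2 ^ (2 * m + 1)) ^ 4 - 1) * ((2 ^ (2 * m + 1)) ^ 6 + 1)) := rfl

theorem six_fac (q : ℕ) : N12 q * (q ^ 2 + 1) = q ^ 6 + 1 := by
  zify
  rw [cast_N12]
  ring

theorem sq_dvd {q : ℕ} (hq : 1 ≤ q) : q ^ 2 + 1 ∣ q ^ 4 - 1 := by
  refine ⟨q ^ 2 - 1, ?_⟩
  zify [Nat.one_le_pow 4 q hq, Nat.one_le_pow 2 q hq]
  ring

/-- **`²F₄(q)`.** -/
theorem full_TF4 (has : ASThm.{0}) (hrf : RichFix.{0})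
    (hnm : ∀ (S : Type) [Group S] [Finite S] [IsSimpleGroup S], ¬ IsMulCommutative S → ∃ g, IsNamed g S)
    {q : ℕ} {T : Type} [Group T] [Finite T] (hT : IsNamed (.tf4 q) T)
    {R : Subgroup T} (hfull : _root_.Cfsg.Agent.H264.FKS.Full T R) : R = ⊤ := by
  obtain ⟨F, _, _, m, hm, hF, hq, ⟨e⟩⟩ := hT.real
  subst hq
  have hF' : Fintype.card F = 2 ^ (2 * m + 1) := hF
  have hch : CharP F 2 := H946.Inst.charP_of Nat.prime_two hF'
  have hcT : Nat.card T = OT .TF4 2 (2 * m + 1) := by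
    have h := hT.eq
    change 1 * Nat.card T = OT .TF4 2 (2 * m + 1) at h
    rwa [one_mul] at h
  have h1q : 1 ≤ 2 ^ (2 * m + 1) := Nat.one_le_two_pow
  let ι' : T →* ↥(chevF4.group F) := (Subgroup.inclusion (le_group (K := F) (2 ^ m))).comp e.toMonoidHom
  have hι' : Function.Injective ι' := (Subgroup.inclusion_injective (le_group (K := F) (2 ^ m))).comp e.injective
  have D := H946.Inst.datF4 Nat.prime_two (a := 2 * m + 1) (by omega) hF'
  have h12 : N12 (2 ^ (2 * m + 1)) ∣ Nat.card T := by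
    rw [hcT, OT_eq, ← six_fac]
    exact ((Nat.dvd_mul_right _ _).mul_left _).mul_left _
  have h4 : (2 ^ (2 * m + 1)) ^ 2 + 1 ∣ Nat.card T := by
    rw [hcT, OT_eq]
    exact (((sq_dvd h1q).mul_left _).mul_right _).mul_left _
  have h2 : 2 ∣ Nat.card T := by
    rw [hcT]
    exact p_dvd_OT (by decide) (by omega)
  have hiso : ∃ w, w.Prime ∧ w ∣ Nat.card T ∧ H325.Loc.PIso 2 w T := by
    obtain ⟨w, hw1, hw2, hw3⟩ := H946.Inst.isoTF4 hm hF'
    exact ⟨w, hw1, by rw [Nat.card_congr e.toEquiv]; exact hw2, hw3.congr e.symm⟩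
  have hrad : ∀ N : Subgroup R, N.Normal → Group.IsSolvable N → N = ⊥ := fun N hN hNs =>
    D.rad_tf4 (by omega) hι' h12 h2 h4 hiso (M := R) hfull card_idx (τ := (chevF4.group F).subtype)
      (Subgroup.subtype_injective _) N hN hNs
  have hab : ∀ r, r.Prime → r ∣ N12 (2 ^ (2 * m + 1)) → Ab T r := fun r hr hd =>
    ab_of_cyc ι' hι' hr (hd.trans h12) fun x hx =>
      (D.t12 x (by rw [hx]; exact hr) (by rw [hx]; exact hr.ne_zero) (by rw [hx]; exact hd)).1
  obtain ⟨r₀, s₀, hr₀, -, hrN, -, -⟩ := two_primes hm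
  have h13 := thirteen_le hr₀ hrN
  have hFT : Fth 52 F T := by
    have h := Fth.of (ι := chevF4.Idx) (F := F) (ρ := (chevF4.group F).subtype) (Subgroup.subtype_injective _)
    rw [card_idx] at h
    exact h.sub ι' hι'
  have hodd : ∀ g : T, orderOf g ≠ 2 * r₀ := by
    intro g hg
    have h5 : orderOf (g ^ 2) = r₀ := by
      rw [orderOf_pow' g (by norm_num), hg, Nat.gcd_mul_right_left, Nat.mul_div_cancel_left _ (by norm_num)]
    have h6 : orderOf (ι' (g ^ 2)) = r₀ := by rw [orderOf_injective ι' hι', h5]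
    have h7 := (D.t12 (ι' (g ^ 2)) (by rw [h6]; exact hr₀) (by rw [h6]; exact hr₀.ne_zero) (by rw [h6]; exact hrN)).2
    have h8 : ι' g ∈ Subgroup.centralizer ({ι' (g ^ 2)} : Set ↥(chevF4.group F)) := by
      rw [Subgroup.mem_centralizer_singleton_iff, ← map_mul, ← map_mul, ← pow_succ, ← pow_succ']
    have h9 := orderOf_dvd_natCard (⟨ι' g, h8⟩ : Subgroup.centralizer ({ι' (g ^ 2)} : Set ↥(chevF4.group F)))
    rw [Subgroup.orderOf_mk, orderOf_injective ι' hι', hg, h7] at h9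
    exact not_dvd_N12 Nat.prime_two (by omega) ((Nat.dvd_mul_right 2 r₀).trans h9)
  obtain ⟨S, h1, h2, h3, h4, g, h5, h6⟩ := exists_char has hrf hnm hm hFT hcT hab hr₀ (by omega)
    (hrN.trans h12) hodd hfull hrad
  exact H325.Same.row_tf4 hT Nat.prime_two (by omega) hfull S h3 h4 h5 h6

end Cfsg.Agent.H371.El
end
end
end
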